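import Groth.Agent.H23Para.Samuel.Quotient
import Groth.Agent.H23Para.UFD
import Groth.Agent.S2865
import Groth.Agent.S2821
import Groth.Agent.H13CI.Regular
import Groth.Agent.H02CA.CompletionFlat
import Groth.Agent.H05EGA4.Equidim
import Groth.Agent.H05EGA4.Completion
import Groth.Agent.H24Adic.Rig
import Groth.Agent.H4Depth.CM
import Groth.Agent.H4Depth.Regular
import Groth.Agent.H8Props.FlatDepth
import Groth.Agent.H4Depth.SkFree
import Groth.Agent.H05EGA4.Regular
import Groth.Prelude.Def_SGA2
import Groth.Prelude.Def_Pi1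

/-!
# Complete intersections of dimension at least four are parafactorial
-/

set_option autoImplicit false
set_option linter.style.haveILetI false

noncomputable section

universe u

open IsLocalRing RingTheory.Sequence

namespace Groth.Agent.H23Para.Samuel

/-- An `I`-adically complete Noetherian ring is complete for smaller ideals. -/
theorem isAdicComplete_of_ideal_le {A : Type u} [CommRing A] [IsNoetherianRing A] {I J : Ideal A} (hJI : J ≤ I)
    [IsAdicComplete I A] : IsAdicComplete J A := by
  have hjac := IsAdicComplete.le_jacobson_bot I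
  refine { toIsHausdorff := IsHausdorff.of_le_jacobson J A (hJI.trans hjac)
           toIsPrecomplete := ⟨fun f hf => ?_⟩ }
  obtain ⟨L, hL⟩ := IsPrecomplete.prec (I := I) inferInstance (f := f) fun {m n} hmn =>
    (hf hmn).mono (Submodule.smul_mono_left (Ideal.pow_right_mono hJI m))
  refine ⟨L, fun n => ?_⟩
  let N : Submodule A A := J ^ n • ⊤
  haveI : IsHausdorff I (A ⧸ N) := IsHausdorff.of_le_jacobson I (A ⧸ N) hjac
  rw [SModEq.sub_mem]
  refine (Submodule.Quotient.mk_eq_zero N).mp (IsHausdorff.haus (I := I) inferInstance _ fun m => ?_)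
  rw [SModEq.sub_mem, sub_zero]
  have h1 : f n - f (max m n) ∈ N := SModEq.sub_mem.mp (hf (le_max_right m n))
  have h2 : f (max m n) - L ∈ I ^ (max m n) • (⊤ : Submodule A A) := SModEq.sub_mem.mp (hL _)
  have h3 : f n - L = (f n - f (max m n)) + (f (max m n) - L) := by ring
  rw [h3, Submodule.Quotient.mk_add, (Submodule.Quotient.mk_eq_zero N).mpr h1, zero_add]
  have := Submodule.mem_map_of_mem (f := N.mkQ)
    (Submodule.smul_mono_left (Ideal.pow_le_pow_right (le_max_left m n)) h2)
  rw [Submodule.map_smul''] at this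
  exact Submodule.smul_mono le_rfl le_top this

theorem withBot_add_natCast_cancel {a b : WithBot ℕ∞} {n : ℕ} (h : a + n = b + n) : a = b := by
  induction n with
  | zero => simpa using h
  | succ n ih =>
    refine ih (H4Depth.withBot_add_one_cancel ?_)
    push_cast at h
    simpa [add_assoc] using h

theorem withBot_le_of_add_le {a b : WithBot ℕ∞} {n : ℕ} (h : a + n ≤ b + n) : a ≤ b := by
  induction a with
  | bot => exact bot_le
  | coe a =>
    induction b with
    | bot =>
      rw [← WithBot.coe_natCast, ← WithBot.coe_add, WithBot.bot_add] at h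
      exact absurd h (WithBot.not_coe_le_bot _)
    | coe b =>
      rw [← WithBot.coe_natCast, ← WithBot.coe_add, ← WithBot.coe_add, WithBot.coe_le_coe] at h
      exact WithBot.coe_le_coe.mpr ((ENat.add_le_add_iff_right (ENat.coe_ne_top n)).mp h)

variable {A : Type u} [CommRing A] [IsNoetherianRing A] [IsLocalRing A]

/-- Parafactoriality descends from the completion. -/
theorem isParafactorial_of_adicCompletion
    (h : ParaF.IsParafactorialLocalRing (AdicCompletion (maximalIdeal A) A)) :
    ParaF.IsParafactorialLocalRing A := by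
  haveI := H05EGA4.isNoetherianRing_adicCompletion A (maximalIdeal A)
  haveI : Module.Flat A (AdicCompletion (maximalIdeal A) A) := AdicCompletion.flat_of_isNoetherian _
  exact Groth.Agent.S2865.result A (AdicCompletion (maximalIdeal A) A)
    (ringKrullDim_eq_zero_of_isField (H05EGA4.isField_completion_fibre A)) h

variable {R : Type u} [CommRing R] [IsRegularLocalRing R]

/-- A quotient of a regular local ring by a regular sequence has full depth. -/
theorem depth_quotient_eq_ringKrullDim (rs : List R) (hreg : IsRegular R rs)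
    [IsLocalRing (R ⧸ Ideal.ofList rs)] :
    ((LocCoh.depth (R ⧸ Ideal.ofList rs) (R ⧸ Ideal.ofList rs) : ℕ∞) : WithBot ℕ∞) =
      ringKrullDim (R ⧸ Ideal.ofList rs) := by
  have hmem : ∀ r ∈ rs, r ∈ maximalIdeal R := fun r hr => by
    by_contra hu
    refine hreg.2 ?_
    rw [show Ideal.ofList rs = ⊤ from Ideal.eq_top_of_isUnit_mem _ (Ideal.subset_span hr)
      (IsLocalRing.notMem_maximalIdeal.mp hu)]
    simp
  have hne : maximalIdeal R • (⊤ : Submodule R R) ≠ ⊤ := by
    rw [smul_eq_mul, Ideal.mul_top]; exact (maximalIdeal.isMaximal R).ne_top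
  have h1 := H4Depth.idealDepth_quotient_ofList_add_length hne rs hreg.toIsWeaklyRegular hmem
  rw [H4Depth.idealDepth_congr _ (Submodule.quotEquivOfEq _ (Ideal.ofList rs) (by rw [smul_eq_mul, Ideal.mul_top]))] at h1
  have h2 := ringKrullDim_add_length_eq_ringKrullDim_of_isRegular rs hreg
  have h3 := H4Depth.depth_self_eq_ringKrullDim_of_regular R
  rw [H8Props.FlatDepth.depth_eq_of_surjective (R := R) (Ideal.Quotient.mk_surjective)]
  rw [← h3] at h2
  unfold LocCoh.depth at h2 ⊢
  rw [← h1, WithBot.coe_add] at h2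
  exact (withBot_add_natCast_cancel h2).symm

theorem mem_maximalIdeal_of_isRegular {rs : List R} (hreg : IsRegular R rs) :
    ∀ r ∈ rs, r ∈ maximalIdeal R := fun r hr => by
  by_contra hu
  refine hreg.2 ?_
  rw [show Ideal.ofList rs = ⊤ from Ideal.eq_top_of_isUnit_mem _ (Ideal.subset_span hr)
    (IsLocalRing.notMem_maximalIdeal.mp hu)]
  simp

/-- `dim R ≤ dim R/q + dim R_q` in a regular local ring. -/
theorem ringKrullDim_eq_quotient_add_localization (q : Ideal R) [q.IsPrime] :
    ringKrullDim R = ringKrullDim (R ⧸ q) + ringKrullDim (Localization.AtPrime q) := by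
  haveI := H4Depth.isCohenMacaulayLocalRing_of_regular R
  have hsupp : (⟨q, ‹_›⟩ : PrimeSpectrum R) ∈ Module.support R R := Module.mem_support_iff'.mpr ⟨1, fun r hr h => hr (by simp [show r = 0 by simpa using h])⟩
  have h := (H4Depth.IsCM.localization (M := R) LocCoh.IsCohenMacaulayLocalRing.supportDim_eq_depth q hsupp).2.1
  obtain ⟨e⟩ := H4Depth.exists_localizedModule_self_equiv q
  rwa [Module.supportDim_self_eq_ringKrullDim, Module.supportDim_eq_of_equiv e,
    Module.supportDim_self_eq_ringKrullDim] at h

/-- The inductive step over a complete regular local ring. -/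
theorem isParafactorial_quotient_of_isAdicComplete (R : Type u) [CommRing R] [IsRegularLocalRing R]
    [IsAdicComplete (maximalIdeal R) R] (rs : List R) (f : R) (hreg : IsRegular R (rs ++ [f]))
    [IsLocalRing (R ⧸ Ideal.ofList (rs ++ [f]))]
    (hdim : (4 : WithBot ℕ∞) ≤ ringKrullDim (R ⧸ Ideal.ofList (rs ++ [f])))
    (ih : ∀ (R : Type u) [CommRing R] [IsRegularLocalRing R] (rs' : List R), rs'.length = rs.length →
      IsRegular R rs' → ∀ [IsLocalRing (R ⧸ Ideal.ofList rs')],
      (4 : WithBot ℕ∞) ≤ ringKrullDim (R ⧸ Ideal.ofList rs') →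
      ParaF.IsParafactorialLocalRing (R ⧸ Ideal.ofList rs')) :
    ParaF.IsParafactorialLocalRing (R ⧸ Ideal.ofList (rs ++ [f])) := by
  have hmem := mem_maximalIdeal_of_isRegular hreg
  have hw := (isWeaklyRegular_append_iff R rs [f]).mp hreg.toIsWeaklyRegular
  have hreg' : IsRegular R rs := (IsLocalRing.isRegular_iff_isWeaklyRegular_of_subset_maximalIdeal
    fun r hr => hmem r (List.mem_append_left _ hr)).mpr hw.1
  let J : Ideal R := Ideal.ofList rs
  let A₁ := R ⧸ J
  let t : A₁ := Ideal.Quotient.mk J f
  have hJm : J ≤ maximalIdeal R := Ideal.span_le.mpr fun r hr => hmem r (List.mem_append_left _ hr)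
  haveI : Nontrivial A₁ := Ideal.Quotient.nontrivial_iff.mpr
    (ne_top_of_le_ne_top (maximalIdeal.isMaximal R).ne_top hJm)
  haveI : IsLocalRing A₁ := IsLocalRing.of_surjective' (Ideal.Quotient.mk J) Ideal.Quotient.mk_surjective
  have hm₁ : (maximalIdeal R).map (Ideal.Quotient.mk J) = maximalIdeal A₁ :=
    IsLocalRing.map_maximalIdeal_of_surjective _ Ideal.Quotient.mk_surjective
  have htm : t ∈ maximalIdeal A₁ := hm₁ ▸ Ideal.mem_map_of_mem _ (hmem f (by simp))
  haveI := H24Adic.isAdicComplete_map_quotient (I := maximalIdeal R) J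
  haveI : IsAdicComplete (Ideal.span {t}) A₁ :=
    isAdicComplete_of_ideal_le (I := (maximalIdeal R).map (Ideal.Quotient.mk J))
      ((Ideal.span_singleton_le_iff_mem _).mpr (hm₁.symm ▸ htm))
  have hJT : J • (⊤ : Submodule R R) = J := by rw [smul_eq_mul, Ideal.mul_top]
  have hfreg : IsSMulRegular (R ⧸ J) f :=
    ((Submodule.quotEquivOfEq _ _ hJT).isSMulRegular_congr f).mp ((isWeaklyRegular_singleton_iff _ f).mp hw.2)
  have htreg : ∀ z : A₁, t * z = 0 → z = 0 := fun z hz => by
    refine hfreg ?_
    show f • z = f • (0 : A₁)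
    rw [smul_zero, ← hz, Algebra.smul_def]
    rfl
  have e : A₁ ⧸ Ideal.span {t} ≃+* R ⧸ Ideal.ofList (rs ++ [f]) :=
    (Ideal.quotEquivOfEq (show Ideal.span {t} = (Ideal.span {f}).map (Ideal.Quotient.mk J) by
      rw [Ideal.map_span, Set.image_singleton])).trans
    ((DoubleQuot.quotQuotEquivQuotSup J (Ideal.span {f})).trans
      (Ideal.quotEquivOfEq (by rw [Ideal.ofList_append, Ideal.ofList_singleton])))
  haveI : IsLocalRing (A₁ ⧸ Ideal.span {t}) := e.symm.isLocalRing
  have hd0 := ringKrullDim_add_length_eq_ringKrullDim_of_isRegular (rs ++ [f]) hreg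
  have hd1 := ringKrullDim_add_length_eq_ringKrullDim_of_isRegular rs hreg'
  have hd : ringKrullDim A₁ = ringKrullDim (R ⧸ Ideal.ofList (rs ++ [f])) + 1 := by
    refine withBot_add_natCast_cancel (n := rs.length) (hd1.trans ?_)
    rw [← hd0, List.length_append, List.length_singleton]
    push_cast
    rw [add_assoc, add_comm (1 : WithBot ℕ∞)]
  have hdim₁ : (4 : WithBot ℕ∞) + 1 ≤ ringKrullDim A₁ := hd ▸ add_le_add hdim le_rfl
  refine isParafactorial_of_ringEquiv e.symm (isParafactorial_quotient A₁ t htreg ?_
    (ih R rs rfl hreg' (le_trans (le_add_of_nonneg_right zero_le_one) hdim₁)) fun p _ hp => ?_)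
  · have h1 := H8Props.FlatDepth.depth_self_quotient_add_one A₁ htm
      (fun a b (hab : t * a = t * b) => sub_eq_zero.mp (htreg _ (by rw [mul_sub, hab, sub_self]))) (Ideal.span {t}) rfl
    have h2 := depth_quotient_eq_ringKrullDim rs hreg'
    rw [← h2, ← h1] at hdim₁
    exact (ENat.add_le_add_iff_right ENat.one_ne_top).mp (WithBot.coe_le_coe.mp hdim₁)
  · let q := p.asIdeal.comap (Ideal.Quotient.mk J)
    have hJq : J ≤ q := fun x hx => by
      rw [Ideal.mem_comap, Ideal.Quotient.eq_zero_iff_mem.mpr hx]
      exact zero_mem _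
    have hmap : q.map (Ideal.Quotient.mk J) = p.asIdeal :=
      Ideal.map_comap_of_surjective _ Ideal.Quotient.mk_surjective _
    haveI : (q.map (Ideal.Quotient.mk J)).IsPrime := hmap ▸ p.2
    obtain ⟨e₁⟩ := H13CI.exists_quotient_localization_equiv J q hJq
    have e₂ : Localization.AtPrime (q.map (Ideal.Quotient.mk J)) ≃+* Localization.AtPrime p.asIdeal :=
      (IsLocalization.ringEquivOfRingEquiv (M := (q.map (Ideal.Quotient.mk J)).primeCompl) (T := p.asIdeal.primeCompl) _ _
        (RingEquiv.refl A₁) (by
          ext x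
          simp [hmap]
          exact ⟨fun ⟨y, hy, h⟩ => h ▸ hy, fun h => ⟨x, h, rfl⟩⟩))
    let R' := Localization.AtPrime q
    haveI : IsRegularRing R := H05EGA4.isRegularRing_of_isRegularLocalRing R
    haveI : IsRegularLocalRing R' := IsRegularRing.isRegularLocalRing_localization _
    let rs' := rs.map (algebraMap R R')
    have hrs' : IsRegular R' rs' :=
      (IsLocalRing.isRegular_iff_isWeaklyRegular_of_subset_maximalIdeal fun x hx => by
        obtain ⟨r, hr, rfl⟩ := List.mem_map.mp hx
        exact (IsLocalization.AtPrime.to_map_mem_maximal_iff R' q r).mpr (hJq (Ideal.subset_span hr))).mpr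
      (IsWeaklyRegular.of_flat hw.1)
    have e₃ : Localization.AtPrime p.asIdeal ≃+* R' ⧸ Ideal.ofList rs' :=
      (e₁.trans e₂).symm.trans (Ideal.quotEquivOfEq (Ideal.map_ofList _ _))
    haveI : IsLocalRing (R' ⧸ Ideal.ofList rs') := e₃.isLocalRing
    refine isParafactorial_of_ringEquiv e₃ (ih R' rs' (by simp [rs']) hrs' ?_)
    have hq1 : ringKrullDim (R ⧸ q) ≤ 1 := by
      refine le_trans (le_of_eq ?_) hp
      let g := (Ideal.Quotient.mk p.asIdeal).comp (Ideal.Quotient.mk J)
      have hg : RingHom.ker g = q := by rw [← RingHom.comap_ker, Ideal.mk_ker]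
      exact ringKrullDim_eq_of_ringEquiv ((Ideal.quotEquivOfEq hg.symm).trans
        (RingHom.quotientKerEquivOfSurjective (f := g)
          (Ideal.Quotient.mk_surjective.comp Ideal.Quotient.mk_surjective)))
    have hd2 : ringKrullDim (R' ⧸ Ideal.ofList rs') + rs.length = ringKrullDim R' := by
      simpa [rs'] using ringKrullDim_add_length_eq_ringKrullDim_of_isRegular rs' hrs'
    have hd3 : ringKrullDim A₁ + rs.length ≤ 1 + (ringKrullDim (R' ⧸ Ideal.ofList rs') + rs.length) := by
      rw [hd2, hd1, ringKrullDim_eq_quotient_add_localization q]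
      exact add_le_add hq1 le_rfl
    rw [← add_assoc, add_comm (1 : WithBot ℕ∞)] at hd3
    exact withBot_le_of_add_le (n := rs.length + 1) (by
      push_cast
      refine le_trans ?_ (hd3.trans (le_of_eq (by abel)))
      rw [← add_assoc, add_right_comm]
      exact add_le_add hdim₁ le_rfl)

/-- Quotients of regular local rings by regular sequences are parafactorial from dimension four on. -/
theorem isParafactorial_quotient_regular (c : ℕ) : ∀ (R : Type u) [CommRing R] [IsRegularLocalRing R]
    (rs : List R), rs.length = c → IsRegular R rs → ∀ [IsLocalRing (R ⧸ Ideal.ofList rs)],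
    (4 : WithBot ℕ∞) ≤ ringKrullDim (R ⧸ Ideal.ofList rs) →
    ParaF.IsParafactorialLocalRing (R ⧸ Ideal.ofList rs) := by
  induction c with
  | zero =>
    intro R _ _ rs hlen _ _ hdim
    obtain rfl := List.length_eq_zero_iff.mp hlen
    have e : R ⧸ Ideal.ofList ([] : List R) ≃+* R :=
      (Ideal.quotEquivOfEq Ideal.ofList_nil).trans (RingEquiv.quotientBot R)
    obtain ⟨_, _⟩ := Groth.Agent.S2821.result R
    refine isParafactorial_of_ringEquiv e (isParafactorial_of_ufd ?_)
    rw [← ringKrullDim_eq_of_ringEquiv e]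
    exact le_trans (by norm_num) hdim
  | succ c ih =>
    intro R _ _ rs hlen hreg _ hdim
    let A := R ⧸ Ideal.ofList rs
    let S := AdicCompletion (maximalIdeal R) R
    haveI : IsRegularLocalRing S := H02CA.isRegularLocalRing_adicCompletion R
    haveI : Module.Flat R S := AdicCompletion.flat_of_isNoetherian _
    haveI := H05EGA4.isNoetherianRing_adicCompletion A (maximalIdeal A)
    obtain ⟨e⟩ := H05EGA4.exists_completion_quotient_equiv (maximalIdeal R) A
      (Ideal.Quotient.mk (Ideal.ofList rs)) Ideal.Quotient.mk_surjective (maximalIdeal A)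
      (IsLocalRing.map_maximalIdeal_of_surjective _ Ideal.Quotient.mk_surjective)
    have hker : (RingHom.ker (Ideal.Quotient.mk (Ideal.ofList rs))).map (algebraMap R S) =
        Ideal.ofList (rs.map (algebraMap R S)) := by rw [Ideal.mk_ker, Ideal.map_ofList]
    let e' : AdicCompletion (maximalIdeal A) A ≃+* S ⧸ Ideal.ofList (rs.map (algebraMap R S)) :=
      e.symm.trans (Ideal.quotEquivOfEq hker)
    haveI : IsLocalRing (S ⧸ Ideal.ofList (rs.map (algebraMap R S))) := e'.isLocalRing
    have hreg₀ : IsRegular S (rs.map (algebraMap R S)) :=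
      (IsLocalRing.isRegular_iff_isWeaklyRegular_of_subset_maximalIdeal fun x hx => by
        obtain ⟨r, hr, rfl⟩ := List.mem_map.mp hx
        exact (mem_maximalIdeal _).mpr fun hu =>
          (mem_maximalIdeal r).mp (mem_maximalIdeal_of_isRegular hreg r hr)
            ((isUnit_map_iff (algebraMap R S) r).mp hu)).mpr
      (IsWeaklyRegular.of_flat hreg.toIsWeaklyRegular)
    refine isParafactorial_of_adicCompletion (isParafactorial_of_ringEquiv e' ?_)
    have hdim₀ : (4 : WithBot ℕ∞) ≤ ringKrullDim (S ⧸ Ideal.ofList (rs.map (algebraMap R S))) := by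
      rwa [← ringKrullDim_eq_of_ringEquiv e', H05EGA4.ringKrullDim_adicCompletion]
    suffices key : ∀ rs₀ : List S, rs₀.length = c + 1 → IsRegular S rs₀ →
        ∀ [IsLocalRing (S ⧸ Ideal.ofList rs₀)], (4 : WithBot ℕ∞) ≤ ringKrullDim (S ⧸ Ideal.ofList rs₀) →
        ParaF.IsParafactorialLocalRing (S ⧸ Ideal.ofList rs₀) from key _ (by simp [hlen]) hreg₀ hdim₀
    intro rs₀ hlen₀ hreg₁ _ hdim₁
    rcases rs₀.eq_nil_or_concat' with rfl | ⟨l, f, rfl⟩
    · simp at hlen₀
    refine isParafactorial_quotient_of_isAdicComplete S l f hreg₁ hdim₁ ?_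
    obtain rfl : l.length = c := by simpa using hlen₀
    exact ih

/-- A complete intersection of dimension at least four is parafactorial. -/
theorem isParafactorial_of_absCI (A : Type u) [CommRing A] [IsLocalRing A] [IsNoetherianRing A]
    (hA : SGA2.IsAbsCompleteIntersection A) (hdim : (4 : WithBot ℕ∞) ≤ ringKrullDim A) :
    ParaF.IsParafactorialLocalRing A := by
  obtain ⟨B, _, _, rs, -, hreg, ⟨e⟩⟩ := hA
  haveI : IsLocalRing (B ⧸ Ideal.ofList rs) := e.isLocalRing
  refine isParafactorial_of_ringEquiv e (isParafactorial_quotient_regular rs.length B rs rfl hreg ?_)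
  exact hdim.trans (ringKrullDim_eq_of_ringEquiv e).le

/-- A complete intersection in the completed sense of dimension at least four is parafactorial. -/
theorem isParafactorial_of_CI (A : Type u) [CommRing A] [IsLocalRing A] [IsNoetherianRing A]
    (hA : Pi1.IsCompleteIntersection A) (hdim : (4 : WithBot ℕ∞) ≤ ringKrullDim A) :
    ParaF.IsParafactorialLocalRing A := by
  haveI := H05EGA4.isNoetherianRing_adicCompletion A (maximalIdeal A)
  exact isParafactorial_of_adicCompletion (isParafactorial_of_absCI _ hA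
    (hdim.trans (H05EGA4.ringKrullDim_adicCompletion A).ge))

end Groth.Agent.H23Para.Samuel
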