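import Groth.Agent.H23Para.Samuel.Model
import Groth.Agent.H23Para.Lift.Punctured
import Groth.Agent.H23Para.PairStalks
import Groth.Agent.H23Para.FlatDescent
import Groth.Agent.H23Para.Criterion
import Mathlib.RingTheory.Ideal.KrullsHeightTheorem
import Mathlib.LinearAlgebra.Matrix.Charpoly.LinearMap

/-!
# The quotient of a complete parafactorial ring by a non-zero-divisor
-/

set_option autoImplicit false
set_option linter.style.haveILetI false

noncomputable section

universe u v

open CategoryTheory CategoryTheory.Limits AlgebraicGeometry Opposite TopologicalSpace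
open Groth.Agent.H11Tilde

namespace Groth.Agent.H23Para.Samuel

/-- Parafactoriality is invariant under ring isomorphisms. -/
theorem isParafactorial_of_ringEquiv {A B : Type u} [CommRing A] [IsLocalRing A] [CommRing B] [IsLocalRing B]
    [IsNoetherianRing A] (e : A ≃+* B) (h : ParaF.IsParafactorialLocalRing B) :
    ParaF.IsParafactorialLocalRing A := by
  let g := Spec.map (CommRingCat.ofHom e.toRingHom)
  haveI : IsIso (CommRingCat.ofHom e.toRingHom) := inferInstanceAs (IsIso e.toCommRingCatIso.hom)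
  haveI : IsIso g := inferInstanceAs (IsIso (Spec.map _))
  haveI : IsLocalHom e.toRingHom := ⟨fun a ha => by simpa using ha⟩
  let Y : Closeds (Spec (CommRingCat.of A)) :=
    ⟨{IsLocalRing.closedPoint A}, IsLocalRing.isClosed_singleton_closedPoint A⟩
  haveI : QuasiCompact (Scheme.Opens.ι (Y.compl : (Spec (CommRingCat.of A)).Opens)) := inferInstance
  refine pair_of_flat g (Y := Y) ?_
  have hY : ParaF.closedsPreimage g Y =
      ⟨{IsLocalRing.closedPoint B}, IsLocalRing.isClosed_singleton_closedPoint B⟩ := by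
    refine TopologicalSpace.Closeds.ext (Set.ext fun q => ⟨fun h => ?_, fun h => ?_⟩)
    · show q = _
      have h' : q.asIdeal.comap e.toRingHom = IsLocalRing.maximalIdeal A := congrArg PrimeSpectrum.asIdeal h
      refine PrimeSpectrum.ext ((IsLocalRing.maximalIdeal.isMaximal B).eq_of_le q.isPrime.ne_top ?_).symm
      intro b hb
      obtain ⟨a, rfl⟩ := e.surjective b
      have : a ∈ q.asIdeal.comap e.toRingHom := h'.symm ▸ (by simpa [IsLocalRing.mem_maximalIdeal] using hb)
      exact this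
    · show PrimeSpectrum.comap e.toRingHom q = _
      rw [show q = IsLocalRing.closedPoint B from h]
      exact IsLocalRing.comap_closedPoint e.toRingHom
  rw [hY]
  exact h

/-- Determinant trick: a module with `bQ ⊆ tQ` up to powers of `b` vanishes near `V(t)` in `D(b)`. -/
theorem exists_notMem_smul_eq_zero {A : Type u} [CommRing A] (Q : Type v) [AddCommGroup Q] [Module A Q]
    [Module.Finite A Q] {p : Ideal A} [p.IsPrime] {t b : A} (ht : t ∈ p) (hb : b ∉ p)
    (hQ : ∀ q : Q, ∃ (j : ℕ) (q' : Q), b ^ j • q = t • q') : ∃ e ∉ p, ∀ q : Q, e • q = 0 := by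
  classical
  obtain ⟨S, hS⟩ := Module.Finite.fg_top (R := A) (M := Q)
  choose j q' hj using hQ
  let J := S.sup j
  let φ : Module.End A Q := algebraMap A _ (b ^ J)
  have hφ : LinearMap.range φ ≤ Ideal.span {t} • (⊤ : Submodule A Q) := by
    rw [LinearMap.range_eq_map, ← hS, Submodule.map_span, Submodule.span_le]
    rintro _ ⟨q, hq, rfl⟩
    obtain ⟨c, hc⟩ := pow_dvd_pow b (Finset.le_sup (f := j) (Finset.mem_coe.mp hq))
    rw [SetLike.mem_coe, hS]
    change b ^ J • q ∈ Ideal.span {t} • (⊤ : Submodule A Q)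
    rw [show b ^ J = b ^ j q * c from hc, mul_comm, mul_smul, hj, smul_comm]
    exact Submodule.smul_mem_smul (Ideal.mem_span_singleton_self t) trivial
  obtain ⟨P, hP, -, hcoef, hev⟩ :=
    LinearMap.exists_monic_and_natDegree_eq_and_coeff_mem_pow_and_aeval_eq_zero A φ (Ideal.span {t}) hφ
  refine ⟨P.eval (b ^ J), fun hmem => hb ?_, fun q => ?_⟩
  · rw [Polynomial.eval_eq_sum_range, Finset.sum_range_succ, hP.coeff_natDegree, one_mul] at hmem
    have h0 : (∑ k ∈ Finset.range P.natDegree, P.coeff k * (b ^ J) ^ k) ∈ p :=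
      p.sum_mem fun k hk => p.mul_mem_right _ (((Ideal.span_singleton_le_iff_mem p).mpr ht)
        (Ideal.pow_le_self (Nat.sub_ne_zero_of_lt (Finset.mem_range.mp hk)) (hcoef k)))
    have h1 := (Submodule.add_mem_iff_right p h0).mp hmem
    rw [← pow_mul] at h1
    exact ‹p.IsPrime›.mem_of_pow_mem _ h1
  · rw [show φ = algebraMap A _ (b ^ J) from rfl, Polynomial.aeval_algebraMap_apply] at hev
    simpa using LinearMap.congr_fun hev q

/-- A module invertible on an open with parafactorial complement in a local scheme has a functional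
surjective on that open. -/
theorem exists_functional_of_ext {R : CommRingCat.{u}} [IsLocalRing R] (W : (Spec R).Opens) (hf : FunBij W)
    (he : ExtProp W) (M : ModuleCat.{u} R)
    (hgen : ∀ p : PrimeSpectrum R, p ∈ W → ∃ (g : R) (m : M), Db (R := R) g ≤ W ∧ g ∉ p.asIdeal ∧ GenOn g m) :
    ∃ δ : M →ₗ[R] R, ∀ p : PrimeSpectrum R, p ∈ W → ∃ q : M, δ q ∉ p.asIdeal := by
  let L : (Spec R).Modules := tilde M
  let e₀ : M →ₗ[R] Γ(L, ⊤) := (tilde.toOpen M ⊤).hom
  have he₀ : Function.Bijective e₀ := ConcreteCategory.bijective_of_isIso (tilde.isoTop M).hom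
  let E := LinearEquiv.ofBijective e₀ he₀
  have hinv : PicF.IsInvertible (L.restrict W.ι) := by
    intro z
    obtain ⟨g, m, hle, hg, hgm'⟩ := hgen z.1 z.2
    have hgm := isGen_of_genOn L (hgm'.map_equiv E)
    obtain ⟨e⟩ := Groth.Agent.H11Tilde.nonempty_iso_structureModule L (Db (R := R) g) _ fun V hV => hgm.bijective hV
    exact ⟨W.ι ⁻¹ᵁ Db (R := R) g, hg, restrict_restrict_trivial hle L e⟩
  obtain ⟨e⟩ := H23Para.nonempty_iso_structureModule (A := R)
    (he (𝟙 (Spec R)) W.ι (by rw [Scheme.Opens.opensRange_ι]; rfl) _ hinv) W.ι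
  have hcst : Function.Bijective (cst R W) :=
    ((bijective_map_congr (Coh.structureModule _) (top_inf_eq W) rfl inf_le_left le_top).mp (hf ⊤)).comp
      (ConcreteCategory.bijective_of_isIso (Scheme.ΓSpecIso R).inv)
  exact Lift.exists_functional_of_open W hcst M hgen ((restrictPushIso W.ι (L.restrict W.ι)).symm ≪≫ e)

variable (A : Type u) [CommRing A] [IsLocalRing A] [IsNoetherianRing A] (t : A)

/-- The points off `V(t)` whose closure meets `V(t)` only at the closed point are curve points. -/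
theorem ringKrullDim_quotient_le_one (p : PrimeSpectrum A) (htm : t ∈ IsLocalRing.maximalIdeal A)
    (h : ∀ q : PrimeSpectrum A, p.asIdeal ≤ q.asIdeal → t ∈ q.asIdeal → q = IsLocalRing.closedPoint A) :
    ringKrullDim (A ⧸ p.asIdeal) ≤ 1 := by
  let π := Ideal.Quotient.mk p.asIdeal
  haveI : IsLocalRing (A ⧸ p.asIdeal) := .of_surjective' _ Ideal.Quotient.mk_surjective
  haveI : IsLocalHom π := .of_surjective π Ideal.Quotient.mk_surjective
  rw [← IsLocalRing.maximalIdeal_height_eq_ringKrullDim]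
  refine (WithBot.coe_le_coe.mpr (Ideal.height_le_one_of_isPrincipal_of_mem_minimalPrimes
    (Ideal.span {π t}) (IsLocalRing.maximalIdeal (A ⧸ p.asIdeal)) ⟨⟨inferInstance, ?_⟩, fun P ⟨hP, hPt⟩ hle => ?_⟩))
  · rw [Ideal.span_singleton_le_iff_mem]
    exact (map_mem_nonunits_iff π t).mpr htm
  · haveI := hP
    have hq := h ⟨P.comap π, inferInstance⟩ (fun a ha => by
      show π a ∈ P
      rw [Ideal.Quotient.eq_zero_iff_mem.mpr ha]
      exact P.zero_mem) (hPt (Ideal.mem_span_singleton_self _))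
    rw [← Ideal.map_comap_of_surjective π Ideal.Quotient.mk_surjective P,
      show P.comap π = IsLocalRing.maximalIdeal A from congrArg PrimeSpectrum.asIdeal hq,
      IsLocalRing.map_maximalIdeal_of_surjective π Ideal.Quotient.mk_surjective]

variable [IsAdicComplete (Ideal.span {t}) A]

/-- Every line bundle on the punctured spectrum of `A/tA` is trivial if `A` is parafactorial. -/
theorem picTrivial_quotient (hreg : ∀ z : A, t * z = 0 → z = 0) [IsLocalRing (A ⧸ Ideal.span {t})]
    (hd : (4 : ℕ∞) ≤ LocCoh.depth (A ⧸ Ideal.span {t}) (A ⧸ Ideal.span {t}))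
    (hA : ParaF.IsParafactorialLocalRing A)
    (hp : ∀ p : PrimeSpectrum A, t ∉ p.asIdeal → ringKrullDim (A ⧸ p.asIdeal) ≤ 1 →
      ParaF.IsParafactorialLocalRing (Localization.AtPrime p.asIdeal)) :
    ParaF.PicTrivial (FEt.puncturedSpec (A ⧸ Ideal.span {t}) : Scheme.{u}) := by
  classical
  let π := Ideal.Quotient.mk (T t)
  haveI : IsLocalHom π := .of_surjective π Ideal.Quotient.mk_surjective
  have htm : t ∈ IsLocalRing.maximalIdeal A := (Ideal.span_singleton_le_iff_mem _).mp
    (IsLocalRing.le_maximalIdeal (Ideal.Quotient.nontrivial_iff.mp inferInstance))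
  refine Lift.picTrivial_of_functional (R := CommRingCat.of (A ⧸ T t)) fun M₀ _ hM₀ => ?_
  choose y x hy hloc using fun p : {p : PrimeSpectrum (A ⧸ T t) // p ≠ IsLocalRing.closedPoint (A ⧸ T t)} => hM₀ p.1 p.2
  obtain ⟨F, hFsub, hF⟩ := (Submodule.fg_span_iff_fg_span_finset_subset (Set.range fun p => y p (x p))).mp
    (IsNoetherian.noetherian (Submodule.span (A ⧸ T t) _))
  choose idx hidx using fun e : F => hFsub (Finset.mem_coe.mpr e.2)
  let P := fun l : Fin F.card => idx (F.equivFin.symm l)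
  let Y : Fin F.card → Fin F.card → A := fun m i => Function.surjInv Ideal.Quotient.mk_surjective (y (P m) (x (P i)))
  have hY : ∀ m i, π (Y m i) = y (P m) (x (P i)) := fun m i => Function.surjInv_eq Ideal.Quotient.mk_surjective _
  let f : Fin F.card → A := fun i => Y i i
  have hI1 : ∀ m i j, f i * Y m j - Y i j * Y m i ∈ T t := fun m i j => by
    rw [← Ideal.Quotient.eq_zero_iff_mem, map_sub, map_mul, map_mul, hY, hY, hY, hY]
    have h := congrArg (y (P m)) (hloc (P i) (x (P j)))
    rw [map_smul, map_smul, smul_eq_mul, smul_eq_mul] at h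
    exact sub_eq_zero.mpr h
  have hfcov : ∀ p₀ : PrimeSpectrum (A ⧸ T t), p₀ ≠ IsLocalRing.closedPoint (A ⧸ T t) →
      ∃ l, π (f l) ∉ p₀.asIdeal := by
    intro p₀ hp₀
    by_contra hcon
    push Not at hcon
    refine hy ⟨p₀, hp₀⟩ ?_
    have hle : Submodule.span (A ⧸ T t) (F : Set (A ⧸ T t)) ≤ p₀.asIdeal := Submodule.span_le.mpr fun e he => by
      have h := hcon (F.equivFin ⟨e, he⟩)
      rw [hY] at h
      simp only [P, Equiv.symm_apply_apply] at h
      have he' : y (idx ⟨e, he⟩) (x (idx ⟨e, he⟩)) = e := hidx ⟨e, he⟩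
      rw [he'] at h
      exact h
    exact hle (hF ▸ Submodule.subset_span ⟨_, rfl⟩)
  have hcl : ∀ p : PrimeSpectrum A, t ∈ p.asIdeal → p ≠ IsLocalRing.closedPoint A → ∃ l, f l ∉ p.asIdeal := by
    intro p htp hpm
    have hker : RingHom.ker π ≤ p.asIdeal := by rw [Ideal.mk_ker]; exact (Ideal.span_singleton_le_iff_mem _).mpr htp
    have hcm : (p.asIdeal.map π).comap π = p.asIdeal := by
      rw [Ideal.comap_map_of_surjective π Ideal.Quotient.mk_surjective, ← RingHom.ker_eq_comap_bot, sup_eq_left]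
      exact hker
    obtain ⟨l, hl⟩ := hfcov ⟨p.asIdeal.map π, Ideal.map_isPrime_of_surjective Ideal.Quotient.mk_surjective hker⟩
      fun h => hpm (PrimeSpectrum.ext (by
        rw [← hcm, show p.asIdeal.map π = IsLocalRing.maximalIdeal (A ⧸ T t) from congrArg PrimeSpectrum.asIdeal h]
        exact IsLocalRing.maximalIdeal_comap π))
    exact ⟨l, fun h => hl (Ideal.mem_map_of_mem π h)⟩
  -- a regular sequence of length four modulo `t`
  obtain ⟨rs, hlen, hmem, hrs⟩ := H4Depth.exists_isWeaklyRegular_of_le_idealDepth (n := 4)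
    (H4Depth.maximalIdeal_smul_top_ne_top (R := A ⧸ T t)) hd
  choose! lift hlift using fun r : A ⧸ T t => (fun (_ : True) => Ideal.Quotient.mk_surjective r)
  let ls := rs.map lift
  have hls : ls.map π = rs := by
    rw [List.map_map]; conv_rhs => rw [← List.map_id rs]
    exact List.map_congr_left fun r _ => hlift r trivial
  have hnzd : ∀ (i : ℕ) (hi : i < ls.length), Nzd (T t ⊔ Ideal.ofList (ls.take i)) (ls[i]) := by
    intro i hi z hz
    have hi' : i < rs.length := by simpa [ls] using hi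
    have h0 := (isSMulRegular_quotient_iff_mem_of_smul_mem _ _).mp (hrs.regular_mod_prev i hi') (π z)
    simp only [smul_eq_mul, ← Ideal.one_eq_top, mul_one] at h0
    have hI : (T t ⊔ Ideal.ofList (ls.take i)).map π = Ideal.ofList (rs.take i) := by
      rw [Ideal.map_sup, Ideal.map_quotient_self, bot_sup_eq, Ideal.map_ofList, List.map_take, hls]
    have hgi : π ls[i] = rs[i] := by
      simp only [ls, List.getElem_map]
      exact hlift _ trivial
    have h1 : π z ∈ (T t ⊔ Ideal.ofList (ls.take i)).map π := hI ▸ h0 (by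
      rw [← hI, ← hgi, ← map_mul]; exact Ideal.mem_map_of_mem π hz)
    rw [Ideal.mem_map_iff_of_surjective π Ideal.Quotient.mk_surjective] at h1
    obtain ⟨w, hw, hwz⟩ := h1
    have := add_mem hw (Submodule.mem_sup_left (Ideal.Quotient.eq.mp hwz.symm) : z - w ∈ T t ⊔ Ideal.ofList (ls.take i))
    simpa using this
  obtain ⟨a, b, c, d, hls4⟩ : ∃ a b c d, ls = [a, b, c, d] := by
    match ls, (show ls.length = 4 by simpa [ls] using hlen) with
    | [a, b, c, d], _ => exact ⟨a, b, c, d, rfl⟩
  have hm : ∀ r ∈ ls, r ∈ IsLocalRing.maximalIdeal A := by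
    intro r hr
    obtain ⟨r', hr', rfl⟩ := List.mem_map.mp hr
    exact (map_mem_nonunits_iff π _).mp ((hlift r' trivial).symm ▸ hmem r' hr')
  rw [hls4] at hm
  have hn : ∀ (i : ℕ) (hi : i < [a, b, c, d].length), Nzd (T t ⊔ Ideal.ofList ([a, b, c, d].take i)) ([a, b, c, d][i]) := by
    rw [← hls4]; exact hnzd
  -- the inverses of the `f i`
  choose u hu using fun i : Fin F.card => (IsLocalization.Away.algebraMap_isUnit (S := Λ (f i)) (f i))
  have hu' : ∀ i, (↑(u i)⁻¹ : Λ (f i)) * cA (f i) (f i) = 1 := fun i =>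
    (congrArg (_ * ·) (hu i).symm).trans (u i).inv_mul
  have hR : ∀ {z : A} (i : Fin F.card) (x : A), z ∈ T t → cA x z ∈ Ie (T t) x := fun _ _ hz => cA_mem _ hz
  let h : ∀ i j, Λ (p2 f i j) := fun i j => res (e1l i j) (↑(u i)⁻¹ : Λ (f i)) * cA (p2 f i j) (Y i j)
  have hh : ∀ i j, cA (p2 f i j) (f i) * h i j = cA (p2 f i j) (Y i j) := fun i j => by
    have := congrArg (res (e1l i j)) (hu' i)
    rw [map_mul, map_one, res_cA] at this
    simp only [h]
    linear_combination (cA (p2 f i j) (Y i j)) * this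
  let D : Datum t f :=
    { a := a, b := b, c := c, d := d
      hma := hm a (by simp), hmb := hm b (by simp), hmc := hm c (by simp), hmd := hm d (by simp)
      ha := by simpa [Ideal.ofList_nil] using hn 0 (by simp)
      hb := by simpa [Ideal.ofList_singleton] using hn 1 (by simp)
      hc := by simpa [Ideal.ofList_cons, Ideal.span_insert, sup_assoc] using hn 2 (by simp)
      hd := by simpa [Ideal.ofList_cons, Ideal.span_insert, sup_assoc] using hn 3 (by simp)
      ht := hreg
      cover := by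
        unfold Cover
        rw [Ideal.radical_eq_sInf]
        refine le_sInf fun Q hQ => ?_
        by_contra hne
        obtain ⟨l, hl⟩ := hcl ⟨Q, hQ.2⟩ (hQ.1 (Submodule.mem_sup_left (Ideal.mem_span_singleton_self t)))
          fun h => hne (congrArg PrimeSpectrum.asIdeal h).ge
        exact hl (hQ.1 (Submodule.mem_sup_right (Ideal.subset_span ⟨l, rfl⟩)))
      h := h
      cocycle := fun i j k => by
        have e1 := congrArg (res (e12 i j k)) (hh i j)
        have e2 := congrArg (res (e23 i j k)) (hh j k)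
        have e3 := congrArg (res (e13 i j k)) (hh i k)
        simp only [map_mul, res_cA] at e1 e2 e3
        refine (Ideal.unit_mul_mem_iff_mem _ (((isUnit_of_dvd ((e1l i j).trans (e12 i j k))).mul
          (isUnit_of_dvd ((e1r i j).trans (e12 i j k)))))).mp ?_
        convert neg_mem (hR i (p3 f i j k) (hI1 i j k)) using 1
        simp only [map_sub, map_mul]
        linear_combination (cA (p3 f i j k) (f j) * res (e23 i j k) (h j k)) * e1 + (cA (p3 f i j k) (Y i j)) * e2 -
          (cA (p3 f i j k) (f j)) * e3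
      norm := fun i => by
        refine (Ideal.unit_mul_mem_iff_mem _ (isUnit_of_dvd (e1l i i))).mp ?_
        rw [mul_sub, hh, mul_one, sub_self]
        exact zero_mem _
      Y := Y
      hY := fun m i j => by
        refine (Ideal.unit_mul_mem_iff_mem _ (isUnit_of_dvd (e1l i j))).mp ?_
        convert hR i (p2 f i j) (hI1 m i j) using 1
        rw [map_sub, map_mul, map_mul, ← hh i j]
        ring
      Ydiag := fun i => rfl
      Z := fun r i => (↑(u i)⁻¹ : Λ (f i)) * cA (f i) (Y i r)
      hZ := fun r i j => by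
        refine (Ideal.unit_mul_mem_iff_mem _ ((isUnit_of_dvd (e1l i j)).mul (isUnit_of_dvd (e1r i j)))).mp ?_
        have ei := congrArg (res (e1l i j)) (hu' i)
        have ej := congrArg (res (e1r i j)) (hu' j)
        simp only [map_mul, map_one, res_cA] at ei ej ⊢
        convert hR i (p2 f i j) (hI1 i j r) using 1
        simp only [map_sub, map_mul]
        linear_combination (cA (p2 f i j) (f j) * cA (p2 f i j) (Y i r)) * ei -
          (cA (p2 f i j) (f i) * h i j * cA (p2 f i j) (Y j r)) * ej - (cA (p2 f i j) (Y j r)) * hh i j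
      Zdiag := fun r => by
        rw [show Y r r = f r from rfl, hu', sub_self]
        exact zero_mem _
      hYZ := fun m r i => by
        refine (Ideal.unit_mul_mem_iff_mem _ (IsLocalization.Away.algebraMap_isUnit (f i))).mp ?_
        convert neg_mem (hR i (f i) (hI1 m i r)) using 1
        simp only [map_sub, map_mul]
        linear_combination (cA (f i) (Y m i) * cA (f i) (Y i r)) * hu' i }
  haveI := D.finite_mod
  choose X k hσX hXgen hXtors using D.exists_local_generator
  -- generators near `V(t)`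
  have hgenV : ∀ (p : PrimeSpectrum A) (l : Fin F.card), t ∈ p.asIdeal → f l ∉ p.asIdeal →
      ∃ e ∉ p.asIdeal, GenOn e (X l) := by
    intro p l htp hfl
    let Q := D.Mod ⧸ Submodule.span A {X l}
    obtain ⟨e₁, he₁, hQ⟩ := exists_notMem_smul_eq_zero Q htp hfl fun q => by
      obtain ⟨z, rfl⟩ := Submodule.Quotient.mk_surjective _ q
      obtain ⟨j, c, hc⟩ := hXgen l z
      obtain ⟨z', hz'⟩ := D.exists_eq_smul_of_σ_eq_zero (f l ^ j • z - c • X l) (by
        rw [map_sub, map_smul, map_smul, hc, sub_self])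
      refine ⟨j, Submodule.Quotient.mk z', ?_⟩
      rw [← Submodule.Quotient.mk_smul, ← Submodule.Quotient.mk_smul, Submodule.Quotient.eq, ← hz', sub_sub_cancel]
      exact Submodule.smul_mem _ _ (Submodule.mem_span_singleton_self _)
    let I : Ideal A := LinearMap.ker (LinearMap.toSpanSingleton A D.Mod (X l))
    obtain ⟨e₂, he₂, hI⟩ := exists_notMem_smul_eq_zero I htp hfl fun q => by
      have hq : (q : A) • X l = 0 := q.2
      obtain ⟨j, hj⟩ := hXtors l q (by rw [← map_smul, hq, map_zero])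
      obtain ⟨w, hw⟩ := Ideal.mem_span_singleton'.mp hj
      refine ⟨j, ⟨w, D.eq_zero_of_smul_eq_zero (w • X l) ?_⟩, Subtype.ext ?_⟩
      · rw [smul_smul, mul_comm, hw, mul_smul, hq, smul_zero]
      · show f l ^ j * q = t * w
        rw [← hw, mul_comm]
    refine ⟨e₁ * e₂, p.isPrime.mul_notMem he₁ he₂, fun z => ?_, fun r hr => ⟨1, ?_⟩⟩
    · have := hQ (Submodule.Quotient.mk z)
      rw [← Submodule.Quotient.mk_smul, Submodule.Quotient.mk_eq_zero, Submodule.mem_span_singleton] at this
      obtain ⟨c, hc⟩ := this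
      exact ⟨1, e₂ * c, by rw [pow_one, mul_comm, mul_smul, ← hc, smul_smul]⟩
    · have := congrArg Subtype.val (hI ⟨r, hr⟩)
      rw [pow_one, mul_assoc, show e₂ * r = 0 from this, mul_zero]
  -- the open where the module is invertible
  let R := CommRingCat.of A
  haveI : IsNoetherianRing R := ‹IsNoetherianRing A›
  let W : (Spec R).Opens := ⨆ g : {g : A × D.Mod // GenOn g.1 g.2}, Db (R := R) g.1.1
  have hW : ∀ {p : PrimeSpectrum A}, p ∈ W → ∃ (g : A) (m : D.Mod), g ∉ p.asIdeal ∧ GenOn g m := fun hp => by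
    obtain ⟨g, hg⟩ := Opens.mem_iSup.mp hp
    exact ⟨g.1.1, g.1.2, hg, g.2⟩
  have hWle : ∀ {g : A} {m : D.Mod}, GenOn g m → Db (R := R) g ≤ W := fun {g m} h =>
    le_iSup (fun g : {g : A × D.Mod // GenOn g.1 g.2} => Db (R := R) g.1.1) ⟨(g, m), h⟩
  have hVW : ∀ p : PrimeSpectrum A, t ∈ p.asIdeal → p ≠ IsLocalRing.closedPoint A → p ∈ W := fun p htp hpm => by
    obtain ⟨l, hl⟩ := hcl p htp hpm
    obtain ⟨e, he, hgen⟩ := hgenV p l htp hl
    exact hWle hgen (show p ∈ Db (R := R) e from he)
  have hst : ∀ p : (Spec R : Scheme.{u}), p ∉ W → ParaF.IsParafactorialLocalRing ((Spec R).presheaf.stalk p) := by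
    intro p hpW
    refine isParafactorial_of_ringEquiv (H23Para.stalkEquiv (A := A) p).symm ?_
    rcases eq_or_ne p (IsLocalRing.closedPoint A) with rfl | hpm
    · exact isParafactorial_of_ringEquiv (H23Para.atMaximal (A := A)).symm hA
    · refine hp p (fun htp => hpW (hVW p htp hpm)) (ringKrullDim_quotient_le_one A t p htm fun q hle htq => ?_)
      by_contra hqm
      obtain ⟨g, m, hg, hgen⟩ := hW (hVW q htq hqm)
      exact hpW (hWle hgen (show p ∈ Db (R := R) g from fun h => hg (hle h)))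
  let C : Closeds (Spec R) := ⟨(W : Set (Spec R : Scheme.{u}))ᶜ, W.isOpen.isClosed_compl⟩
  obtain ⟨hf', he'⟩ := pair_iff.mp ((pair_iff_stalks C).mpr hst)
  rw [show C.compl = W from Opens.ext (compl_compl _)] at hf' he'
  obtain ⟨δ, hδ⟩ := exists_functional_of_ext (R := R) W hf' he' (ModuleCat.of R D.Mod) fun p hp => by
    obtain ⟨g, m, hg, hgen⟩ := hW hp
    exact ⟨g, m, hWle hgen, hg, hgen⟩
  let δA : D.Mod →ₗ[A] A := δ
  have hδ0 : ∀ m m' : D.Mod, D.σ m = D.σ m' → π (δA m) = π (δA m') := fun m m' h => by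
    obtain ⟨w, hw⟩ := D.exists_eq_smul_of_σ_eq_zero (m - m') (by rw [map_sub, h, sub_self])
    rw [Ideal.Quotient.eq, ← map_sub, hw, map_smul, smul_eq_mul]
    exact (T t).mul_mem_right _ (Ideal.mem_span_singleton_self t)
  let Y₀ : M₀ → Fin F.card → A ⧸ T t := fun z m => y (P m) z
  let Rel : M₀ → A ⧸ T t → Prop := fun z v => ∀ (r : A) (m : D.Mod), D.σ m = r • Y₀ z → π r * v = π (δA m)
  have hann : Nzd (T t) a := D.ha
  have hJ : ∀ z, ∀ e ∈ IsLocalRing.maximalIdeal A, ∃ (K : ℕ) (m : D.Mod), D.σ m = e ^ K • Y₀ z := by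
    intro z e he
    let J : Ideal A := (LinearMap.range D.σ).comap (LinearMap.toSpanSingleton A _ (Y₀ z))
    have hTJ : T t ≤ J := by
      refine (Ideal.span_singleton_le_iff_mem J).mpr ⟨0, ?_⟩
      funext m
      show D.σ 0 m = t • Y₀ z m
      rw [map_zero, Algebra.smul_def,
        show algebraMap A (A ⧸ T t) t = 0 from Ideal.Quotient.eq_zero_iff_mem.mpr (Ideal.mem_span_singleton_self t),
        zero_mul]
      rfl
    obtain ⟨K, m, hm⟩ := D.cover.pow_mem hTJ (fun l => by
      refine ⟨k l + 1, Function.surjInv Ideal.Quotient.mk_surjective (y (P l) z) • X l, ?_⟩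
      funext m
      rw [map_smul, hσX]
      show _ = f l ^ (k l + 1) • y (P m) z
      simp only [Pi.smul_apply, Algebra.smul_def]
      show π _ * (π (f l ^ k l) * π (Y m l)) = π (f l ^ (k l + 1)) * y (P m) z
      rw [Function.surjInv_eq Ideal.Quotient.mk_surjective, hY, pow_succ, map_mul, hY l l]
      have h := congrArg (y (P m)) (hloc (P l) z)
      rw [map_smul, map_smul, smul_eq_mul, smul_eq_mul] at h
      linear_combination (-π (f l ^ k l)) * h) he
    exact ⟨K, m, hm⟩
  have hcancel : ∀ (K : ℕ) (v : A ⧸ T t), π (a ^ K) * v = 0 → v = 0 := fun K v hv => by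
    obtain ⟨v, rfl⟩ := Ideal.Quotient.mk_surjective v
    rw [← map_mul, Ideal.Quotient.eq_zero_iff_mem] at hv
    exact Ideal.Quotient.eq_zero_iff_mem.mpr (D.ha.pow K hv)
  have hex : ∀ z, ∃ v, Rel z v := by
    intro z
    obtain ⟨K, ma, hma⟩ := hJ z a D.hma
    obtain ⟨K', mb, hmb⟩ := hJ z b D.hmb
    have hsym : ∀ (r r' : A) (m m' : D.Mod), D.σ m = r • Y₀ z → D.σ m' = r' • Y₀ z →
        π r' * π (δA m) = π r * π (δA m') := fun r r' m m' h h' => by
      have := hδ0 (r' • m) (r • m') (by rw [map_smul, map_smul, h, h', smul_comm])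
      rwa [δA.map_smul, δA.map_smul, smul_eq_mul, smul_eq_mul, map_mul, map_mul] at this
    have hregB : IsSMulRegular (A ⧸ T t) (π a) := isSMulRegular_iff_right_eq_zero_of_smul.mpr fun w hw =>
      hcancel 1 w (by rw [pow_one]; exact hw)
    have hb' : ∀ w, π a ∣ π b * w → π a ∣ w := by
      rintro w ⟨q, hq⟩
      obtain ⟨w, rfl⟩ := Ideal.Quotient.mk_surjective w
      obtain ⟨q, rfl⟩ := Ideal.Quotient.mk_surjective q
      rw [← map_mul, ← map_mul, Ideal.Quotient.eq] at hq
      obtain ⟨i, hi, j, hj, rfl⟩ := Submodule.mem_sup.mp (D.hb w (Submodule.mem_sup.mpr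
        ⟨_, hq, a * q, Ideal.mem_span_singleton'.mpr ⟨q, mul_comm _ _⟩, sub_add_cancel _ _⟩))
      obtain ⟨s, rfl⟩ := Ideal.mem_span_singleton'.mp hj
      exact ⟨π s, by rw [map_add, Ideal.Quotient.eq_zero_iff_mem.mpr hi, zero_add, map_mul, mul_comm]⟩
    obtain ⟨v, hv⟩ := dvd_of_dvd_pow_mul hregB hb' K (π (δA ma)) K'
      ⟨π (δA mb), by rw [← map_pow, ← map_pow, hsym (a ^ K) (b ^ K') ma mb hma hmb]⟩
    refine ⟨v, fun r m hm => sub_eq_zero.mp (hcancel K _ ?_)⟩
    rw [mul_sub, mul_left_comm, map_pow, ← hv, hsym (a ^ K) r ma m hma hm, map_pow, sub_self]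
  choose δ₀ hδ₀ using hex
  have huniq : ∀ z v, (∀ K m, D.σ m = a ^ K • Y₀ z → π (a ^ K) * v = π (δA m)) → δ₀ z = v := fun z v h => by
    obtain ⟨K, m, hm⟩ := hJ z a D.hma
    exact sub_eq_zero.mp (hcancel K _ (by rw [mul_sub, hδ₀ z _ m hm, h K m hm, sub_self]))
  have hadd : ∀ z w, δ₀ (z + w) = δ₀ z + δ₀ w := fun z w => by
    obtain ⟨K, m, hm⟩ := hJ z a D.hma
    obtain ⟨K', m', hm'⟩ := hJ w a D.hma
    refine huniq _ _ fun K'' m'' hm'' => ?_
    refine sub_eq_zero.mp (hcancel (K + K') _ ?_)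
    have h := hδ0 ((a ^ K'') • (a ^ K' • m + a ^ K • m')) ((a ^ (K + K')) • m'') (by
      rw [map_smul, map_smul, map_add, map_smul, map_smul, hm, hm', hm'']
      funext i
      simp only [Pi.smul_apply, Pi.add_apply, Pi.mul_apply, Pi.algebraMap_apply, Y₀, map_add, Algebra.smul_def, pow_add, map_mul]
      ring)
    simp only [map_smul, map_add, smul_eq_mul, map_mul, map_pow, pow_add] at h ⊢
    have h1 := hδ₀ z _ m hm
    have h2 := hδ₀ w _ m' hm'
    simp only [map_pow] at h1 h2
    linear_combination h + (π a ^ K'' * π a ^ K') * h1 + (π a ^ K'' * π a ^ K) * h2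
  have hsmul : ∀ (c : A ⧸ T t) z, δ₀ (c • z) = c * δ₀ z := fun c z => by
    obtain ⟨c, rfl⟩ := Ideal.Quotient.mk_surjective c
    obtain ⟨K, m, hm⟩ := hJ z a D.hma
    refine huniq _ _ fun K'' m'' hm'' => ?_
    refine sub_eq_zero.mp (hcancel K _ ?_)
    have h := hδ0 ((a ^ K'') • c • m) ((a ^ K) • m'') (by
      rw [map_smul, map_smul, map_smul, hm, hm'']
      funext i
      simp only [Pi.smul_apply, Pi.mul_apply, Pi.algebraMap_apply, Y₀, map_smul, smul_eq_mul, Algebra.smul_def]
      show π _ * (π c * (π _ * _)) = π _ * (π _ * (π c * _))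
      simp only [map_pow]
      ring)
    simp only [map_smul, smul_eq_mul, map_mul, map_pow] at h ⊢
    have h1 := hδ₀ z _ m hm
    simp only [map_pow] at h1
    linear_combination h + (π a ^ K'' * π c) * h1
  refine ⟨{ toFun := δ₀, map_add' := hadd, map_smul' := fun c z => by rw [hsmul]; rfl }, fun p₀ hp₀ => ?_⟩
  obtain ⟨l, hl⟩ := hfcov p₀ hp₀
  refine ⟨x (P l), fun hmem => ?_⟩
  let p : PrimeSpectrum A := ⟨p₀.asIdeal.comap π, inferInstance⟩
  have htp : t ∈ p.asIdeal := by
    show π t ∈ p₀.asIdeal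
    rw [Ideal.Quotient.eq_zero_iff_mem.mpr (Ideal.mem_span_singleton_self t)]
    exact zero_mem _
  have hpm : p ≠ IsLocalRing.closedPoint A := fun h => hp₀ (PrimeSpectrum.ext (by
    rw [← Ideal.map_comap_of_surjective π Ideal.Quotient.mk_surjective p₀.asIdeal,
      show p₀.asIdeal.comap π = IsLocalRing.maximalIdeal A from congrArg PrimeSpectrum.asIdeal h]
    exact IsLocalRing.map_maximalIdeal_of_surjective π Ideal.Quotient.mk_surjective))
  obtain ⟨z, hz⟩ := hδ p (hVW p htp hpm)
  obtain ⟨e, he, hgen⟩ := hgenV p l htp hl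
  obtain ⟨j, c, hc⟩ := hgen.1 z
  have h1 := congrArg δA hc
  rw [map_smul, map_smul, smul_eq_mul, smul_eq_mul] at h1
  have h2 := hδ₀ (x (P l)) (f l ^ k l) (X l) (by
    rw [hσX]
    congr 1
    funext m
    exact hY m l)
  have hX : π (δA (X l)) ∈ p₀.asIdeal := by
    rw [← h2]
    exact Ideal.mul_mem_left _ _ hmem
  refine p.isPrime.mul_notMem (fun h => he (p.isPrime.mem_of_pow_mem j h)) hz (?_ : e ^ j * δA z ∈ p.asIdeal)
  rw [h1]
  exact Ideal.mul_mem_left _ _ hX

/-- The quotient of a complete parafactorial ring by a non-zero-divisor is parafactorial in depth four. -/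
theorem isParafactorial_quotient (hreg : ∀ z : A, t * z = 0 → z = 0) [IsLocalRing (A ⧸ Ideal.span {t})]
    (hd : (4 : ℕ∞) ≤ LocCoh.depth (A ⧸ Ideal.span {t}) (A ⧸ Ideal.span {t}))
    (hA : ParaF.IsParafactorialLocalRing A)
    (hp : ∀ p : PrimeSpectrum A, t ∉ p.asIdeal → ringKrullDim (A ⧸ p.asIdeal) ≤ 1 →
      ParaF.IsParafactorialLocalRing (Localization.AtPrime p.asIdeal)) :
    ParaF.IsParafactorialLocalRing (A ⧸ Ideal.span {t}) :=
  isParafactorialLocalRing_iff.mpr ⟨bijective_punctured_iff.mpr (le_trans (by norm_num) hd),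
    picTrivial_quotient A t hreg hd hA hp⟩

end Groth.Agent.H23Para.Samuel
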