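import Groth.Agent.H23Para.Samuel.CI
import Groth.Agent.H23Para.Criterion

/-!
# Factorial complete intersections (Grothendieck)
-/

set_option autoImplicit false
set_option linter.style.haveILetI false

noncomputable section

universe u

open IsLocalRing RingTheory.Sequence


namespace Groth.Agent.H23Para.Samuel

/-- The local rings of an absolute complete intersection are absolute complete intersections. -/
theorem absCI_localization {A : Type u} [CommRing A] [IsLocalRing A] (hA : SGA2.IsAbsCompleteIntersection A)
    (p : Ideal A) [p.IsPrime] : SGA2.IsAbsCompleteIntersection (Localization.AtPrime p) := by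
  obtain ⟨B, _, _, rs, -, hreg, ⟨e⟩⟩ := hA
  let f : B →+* A := e.symm.toRingHom.comp (Ideal.Quotient.mk (Ideal.span {r | r ∈ rs}))
  let q := p.comap f
  let J : Ideal B := Ideal.ofList rs
  have hJq : J ≤ q := fun x hx => by
    show f x ∈ p
    have : f x = 0 := (congrArg e.symm (Ideal.Quotient.eq_zero_iff_mem.mpr hx)).trans (map_zero _)
    rw [this]
    exact zero_mem p
  have hmap : q.map (Ideal.Quotient.mk J) = p.comap e.symm.toRingHom :=
    Ideal.map_comap_of_surjective (Ideal.Quotient.mk J) Ideal.Quotient.mk_surjective (p.comap e.symm.toRingHom)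
  haveI : (q.map (Ideal.Quotient.mk J)).IsPrime := hmap ▸ inferInstance
  obtain ⟨e₁⟩ := H13CI.exists_quotient_localization_equiv J q hJq
  have e₂ : Localization.AtPrime (q.map (Ideal.Quotient.mk J)) ≃+* Localization.AtPrime p :=
    IsLocalization.ringEquivOfRingEquiv (M := (q.map (Ideal.Quotient.mk J)).primeCompl) (T := p.primeCompl) _ _
      e.symm (by
        refine Submonoid.ext fun x => ⟨?_, fun hx => ⟨e x, ?_, e.symm_apply_apply x⟩⟩
        · rintro ⟨y, hy, rfl⟩
          exact fun h => hy (hmap ▸ h)
        · intro h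
          rw [hmap] at h
          exact hx (by simpa using (Ideal.mem_comap.mp h)))
  haveI : IsRegularRing B := H05EGA4.isRegularRing_of_isRegularLocalRing B
  haveI : IsRegularLocalRing (Localization.AtPrime q) := IsRegularRing.isRegularLocalRing_localization _
  have hm : ∀ x ∈ rs.map (algebraMap B (Localization.AtPrime q)), x ∈ maximalIdeal (Localization.AtPrime q) := by
    intro x hx
    obtain ⟨r, hr, rfl⟩ := List.mem_map.mp hx
    exact (IsLocalization.AtPrime.to_map_mem_maximal_iff (Localization.AtPrime q) q r).mpr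
      (hJq (Ideal.subset_span hr))
  exact ⟨Localization.AtPrime q, inferInstance, inferInstance, rs.map (algebraMap B (Localization.AtPrime q)), hm,
    (IsLocalRing.isRegular_iff_isWeaklyRegular_of_subset_maximalIdeal hm).mpr
      (IsWeaklyRegular.of_flat hreg.toIsWeaklyRegular),
    ⟨(e₁.trans e₂).symm.trans (Ideal.quotEquivOfEq (Ideal.map_ofList _ _))⟩⟩

theorem exists_ringKrullDim_eq_nat (A : Type u) [CommRing A] [IsLocalRing A] [IsNoetherianRing A] :
    ∃ d : ℕ, ringKrullDim A = (d : WithBot ℕ∞) := by
  rw [← Module.supportDim_self_eq_ringKrullDim]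
  exact H4Depth.exists_nat_supportDim_eq

/-- A complete intersection which is factorial in codimension at most three is factorial. -/
theorem ufd_of_absCI : ∀ (n : ℕ) (A : Type u) [CommRing A] [IsLocalRing A] [IsNoetherianRing A],
    ringKrullDim A ≤ n → SGA2.IsAbsCompleteIntersection A →
    (∀ p : PrimeSpectrum A, ringKrullDim (Localization.AtPrime p.asIdeal) ≤ 3 →
      IsDomain (Localization.AtPrime p.asIdeal) ∧ UniqueFactorizationMonoid (Localization.AtPrime p.asIdeal)) →
    IsDomain A ∧ UniqueFactorizationMonoid A := by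
  intro n
  induction n using Nat.strong_induction_on with
  | h n ih =>
    intro A _ _ _ hn hA h
    by_cases h3 : ringKrullDim A ≤ 3
    · obtain ⟨(_ : IsDomain (Localization.AtPrime (maximalIdeal A))), (_ : UniqueFactorizationMonoid (Localization.AtPrime (maximalIdeal A)))⟩ :=
        h (closedPoint A) ((ringKrullDim_eq_of_ringEquiv (atMaximal (A := A))).ge.trans h3)
      exact ⟨(atMaximal (A := A)).toMulEquiv.isDomain (Localization.AtPrime (maximalIdeal A)),
        (atMaximal (A := A)).symm.toMulEquiv.uniqueFactorizationMonoid ‹_›⟩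
    have h4 : (4 : WithBot ℕ∞) ≤ ringKrullDim A := by
      revert h3
      rcases exists_ringKrullDim_eq_nat A with ⟨d, hd⟩
      rw [hd]
      intro h3
      have : ¬ d ≤ 3 := fun hle => h3 (by exact_mod_cast hle)
      exact_mod_cast (show 4 ≤ d by omega)
    obtain ⟨hb, hpic⟩ := isParafactorialLocalRing_iff.mp (isParafactorial_of_absCI A hA h4)
    refine ufd_of_punctured (le_trans (by norm_num) h4) (bijective_punctured_iff.mp hb) (fun p hp => ?_) hpic
    have hlt : ringKrullDim (Localization.AtPrime p.asIdeal) < ringKrullDim A := by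
      rw [IsLocalization.AtPrime.ringKrullDim_eq_height p.asIdeal, ← IsLocalRing.maximalIdeal_height_eq_ringKrullDim,
        WithBot.coe_lt_coe]
      exact Ideal.height_strict_mono_of_isPrime
        (lt_of_le_of_ne (IsLocalRing.le_maximalIdeal p.2.ne_top) fun he => hp (PrimeSpectrum.ext he))
    obtain ⟨d, hd⟩ := exists_ringKrullDim_eq_nat (Localization.AtPrime p.asIdeal)
    obtain ⟨d', hd'⟩ := exists_ringKrullDim_eq_nat A
    rw [hd, hd'] at hlt
    rw [hd'] at hn
    have h1 : d < d' := by exact_mod_cast hlt
    have h2 : d' ≤ n := by exact_mod_cast hn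
    refine ih d (lt_of_lt_of_le h1 h2) _ hd.le (absCI_localization hA p.asIdeal) fun Q hQ => ?_
    have e := (IsLocalization.localizationLocalizationAtPrimeIsoLocalization p.asIdeal.primeCompl Q.asIdeal).toRingEquiv
    let q : PrimeSpectrum A := ⟨Q.asIdeal.comap (algebraMap A (Localization.AtPrime p.asIdeal)), inferInstance⟩
    obtain ⟨_, _⟩ := h q ((ringKrullDim_eq_of_ringEquiv e).le.trans hQ)
    exact ⟨e.symm.toMulEquiv.isDomain (Localization.AtPrime q.asIdeal), e.toMulEquiv.uniqueFactorizationMonoid ‹_›⟩

end Groth.Agent.H23Para.Samuel
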