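import Groth.Agent.H23Para.Samuel.Loc
import Mathlib.RingTheory.LocalRing.MaximalIdeal.Basic
import Mathlib.Tactic.Abel
import Mathlib.Tactic.Ring

/-!
# Čech cochains of degree at most two on a punctured spectrum
-/

set_option autoImplicit false

noncomputable section

universe u

namespace Groth.Agent.H23Para.Samuel

variable {A : Type u} [CommRing A] [IsLocalRing A] {N : ℕ} (f : Fin N → A)

abbrev p2 (i j : Fin N) : A := f i * f j
abbrev p3 (i j k : Fin N) : A := f i * f j * f k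
abbrev p4 (i j k l : Fin N) : A := f i * f j * f k * f l

variable {f}

theorem e1l (i j : Fin N) : f i ∣ p2 f i j := dvd_mul_right _ _
theorem e1r (i j : Fin N) : f j ∣ p2 f i j := dvd_mul_left _ _
theorem e12 (i j k : Fin N) : p2 f i j ∣ p3 f i j k := dvd_mul_right _ _
theorem e13 (i j k : Fin N) : p2 f i k ∣ p3 f i j k := ⟨f j, by simp only [p2, p3]; ring⟩
theorem e23 (i j k : Fin N) : p2 f j k ∣ p3 f i j k := ⟨f i, by simp only [p2, p3]; ring⟩
theorem e123 (i j k l : Fin N) : p3 f i j k ∣ p4 f i j k l := dvd_mul_right _ _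
theorem e124 (i j k l : Fin N) : p3 f i j l ∣ p4 f i j k l := ⟨f k, by simp only [p3, p4]; ring⟩
theorem e134 (i j k l : Fin N) : p3 f i k l ∣ p4 f i j k l := ⟨f j, by simp only [p3, p4]; ring⟩
theorem e234 (i j k l : Fin N) : p3 f j k l ∣ p4 f i j k l := ⟨f i, by simp only [p3, p4]; ring⟩

/-- The Čech differential in degree zero. -/
def δ0 (c : ∀ i, Λ (f i)) (i j : Fin N) : Λ (p2 f i j) := res (e1r i j) (c j) - res (e1l i j) (c i)

/-- The Čech differential in degree one. -/
def δ1 (b : ∀ i j, Λ (p2 f i j)) (i j k : Fin N) : Λ (p3 f i j k) :=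
  res (e23 i j k) (b j k) - res (e13 i j k) (b i k) + res (e12 i j k) (b i j)

/-- The Čech differential in degree two. -/
def δ2 (c : ∀ i j k, Λ (p3 f i j k)) (i j k l : Fin N) : Λ (p4 f i j k l) :=
  res (e234 i j k l) (c j k l) - res (e134 i j k l) (c i k l) + res (e124 i j k l) (c i j l) -
    res (e123 i j k l) (c i j k)

theorem δ1_δ0 (v : ∀ i, Λ (f i)) (i j k : Fin N) : δ1 (δ0 v) i j k = 0 := by
  simp only [δ1, δ0, map_sub, res_res]
  abel

variable (f)

/-- The opens `D(f i)` cover the punctured spectrum of `A/I`. -/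
def Cover (I : Ideal A) : Prop := IsLocalRing.maximalIdeal A ≤ (I ⊔ Ideal.span (Set.range f)).radical

variable {f} {I : Ideal A}

theorem Cover.mono {J : Ideal A} (h : Cover f I) (hIJ : I ≤ J) : Cover f J :=
  h.trans (Ideal.radical_mono (sup_le_sup_right hIJ _))

theorem Cover.pow_mem (h : Cover f I) {J : Ideal A} (hI : I ≤ J) (hf : ∀ l, ∃ k, f l ^ k ∈ J) {a : A}
    (ha : a ∈ IsLocalRing.maximalIdeal A) : ∃ K, a ^ K ∈ J := by
  have hle : I ⊔ Ideal.span (Set.range f) ≤ J.radical :=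
    sup_le (hI.trans Ideal.le_radical) (Ideal.span_le.mpr (by rintro _ ⟨l, rfl⟩; exact hf l))
  exact Ideal.radical_le_radical_iff.mpr hle (h ha)

theorem exists_lift_family {ι : Type*} [Fintype ι] {x y : ι → A} (h : ∀ i, x i ∣ y i) {l : A}
    (hy : ∀ i, y i ∣ x i * l) (w : ∀ i, Λ (y i)) :
    ∃ (K : ℕ) (v : ∀ i, Λ (x i)), ∀ i, res (h i) (v i) = cA (y i) l ^ K * w i := by
  classical
  choose k v hv using fun i => exists_lift (h i) (hy i) (w i)
  refine ⟨Finset.univ.sup k, fun i => cA (x i) l ^ (Finset.univ.sup k - k i) * v i, fun i => ?_⟩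
  rw [map_mul, map_pow, res_cA, hv, ← mul_assoc, ← pow_add,
    Nat.sub_add_cancel (Finset.le_sup (f := k) (Finset.mem_univ i))]

theorem exists_pow_family {ι : Type*} [Fintype ι] {x y : ι → A} (h : ∀ i, x i ∣ y i) {l : A}
    (hy : ∀ i, y i ∣ x i * l) {w : ∀ i, Λ (x i)} (hw : ∀ i, res (h i) (w i) ∈ Ie I (y i)) :
    ∃ K, ∀ i, cA (x i) l ^ K * w i ∈ Ie I (x i) := by
  classical
  choose k hk using fun i => exists_pow_mul_mem (h i) (hy i) (hw i)
  refine ⟨Finset.univ.sup k, fun i => ?_⟩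
  rw [← Nat.sub_add_cancel (Finset.le_sup (f := k) (Finset.mem_univ i)), pow_add, mul_assoc]
  exact Ideal.mul_mem_left _ _ (hk i)

/-- A constant vanishing on every open of the cover vanishes. -/
theorem mem_of_forall_cA_mem (hf : Cover f I) {a : A} (ha : a ∈ IsLocalRing.maximalIdeal A) (hr : Nzd I a) {z : A}
    (hz : ∀ i, cA (f i) z ∈ Ie I (f i)) : z ∈ I := by
  let J : Ideal A := I.colon {z}
  have hJ : ∀ r, r ∈ J ↔ r * z ∈ I := fun r => Submodule.mem_colon_singleton
  obtain ⟨K, hK⟩ := hf.pow_mem (J := J) (fun r hr' => (hJ r).mpr (I.mul_mem_right _ hr'))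
    (fun l => by obtain ⟨k, hk⟩ := exists_pow_mul_mem_of_cA_mem (hz l); exact ⟨k, (hJ _).mpr hk⟩) ha
  exact hr.pow K ((hJ _).mp hK)

/-- Functions extend over the punctured spectrum of `A/I` in depth two. -/
theorem exists_const (hf : Cover f I) {a b : A} (ha : a ∈ IsLocalRing.maximalIdeal A)
    (hb : b ∈ IsLocalRing.maximalIdeal A) (hra : Nzd I a) (hrb : Nzd (I ⊔ Ideal.span {a}) b)
    (c : ∀ i, Λ (f i)) (hc : ∀ i j, δ0 c i j ∈ Ie I (p2 f i j)) :
    ∃ u : A, ∀ i, c i - cA (f i) u ∈ Ie I (f i) := by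
  let J : Ideal A :=
    { carrier := {r | ∃ u : A, ∀ i, cA (f i) r * c i - cA (f i) u ∈ Ie I (f i)}
      zero_mem' := ⟨0, fun i => by simp⟩
      add_mem' := fun {r r'} ⟨u, hu⟩ ⟨u', hu'⟩ => ⟨u + u', fun i => by
        convert add_mem (hu i) (hu' i) using 1
        rw [map_add, map_add]; ring⟩
      smul_mem' := fun s r ⟨u, hu⟩ => ⟨s * u, fun i => by
        convert Ideal.mul_mem_left _ (cA (f i) s) (hu i) using 1
        rw [smul_eq_mul, map_mul, map_mul]; ring⟩ }
  have hlocal : ∀ l, ∃ k, f l ^ k ∈ J := fun l => by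
    obtain ⟨u, k, hu⟩ := exists_eq (c l)
    obtain ⟨M, hM⟩ := exists_pow_family (I := I) (fun i : Fin N => e1r l i) (l := f l) (fun i => by
      simp only [p2]; rw [mul_comm])
      (w := fun i => cA (f i) (f l) ^ k * c i - cA (f i) u) (fun i => by
        have h1 := congrArg (res (e1l l i)) hu
        rw [map_mul, map_pow, res_cA, res_cA] at h1
        rw [map_sub, map_mul, map_pow, res_cA, res_cA, ← h1]
        convert Ideal.mul_mem_left _ (cA (p2 f l i) (f l) ^ k) (hc l i) using 1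
        simp only [δ0]
        ring)
    refine ⟨M + k, f l ^ M * u, fun i => ?_⟩
    convert hM i using 1
    rw [map_mul, map_pow, map_pow, pow_add]
    ring
  have hI : I ≤ J := fun r hr => ⟨0, fun i => by
    rw [map_zero, sub_zero]
    exact Ideal.mul_mem_right _ _ (cA_mem _ hr)⟩
  obtain ⟨K, u, hu⟩ := hf.pow_mem hI hlocal ha
  obtain ⟨M, w, hw⟩ := hf.pow_mem hI hlocal hb
  have h : b ^ M * u - a ^ K * w ∈ I := mem_of_forall_cA_mem hf ha hra fun i => by
    convert sub_mem (Ideal.mul_mem_left _ (cA (f i) (a ^ K)) (hw i)) (Ideal.mul_mem_left _ (cA (f i) (b ^ M)) (hu i))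
      using 1
    rw [map_sub, map_mul, map_mul]
    ring
  have key : ∀ K' : ℕ, ∀ u w, b ^ M * u - a ^ K' * w ∈ I → ∃ v, u - a ^ K' * v ∈ I := by
    intro K'
    induction K' with
    | zero => exact fun u _ _ => ⟨u, by simp⟩
    | succ K' ih =>
      intro u w h
      have h' : u ∈ I ⊔ Ideal.span {a} := hrb.pow M (Submodule.mem_sup.mpr ⟨b ^ M * u - a ^ (K' + 1) * w, h,
        a ^ (K' + 1) * w, Ideal.mem_span_singleton'.mpr ⟨a ^ K' * w, by ring⟩, by ring⟩)
      obtain ⟨i, hi, j, hj, rfl⟩ := Submodule.mem_sup.mp h'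
      obtain ⟨u', rfl⟩ := Ideal.mem_span_singleton'.mp hj
      obtain ⟨v, hv⟩ := ih u' w (hra _ (by
        convert sub_mem h (I.mul_mem_left (b ^ M) hi) using 1
        ring))
      refine ⟨v, ?_⟩
      convert add_mem hi (I.mul_mem_left a hv) using 1
      ring
  obtain ⟨v, hv⟩ := key K u w h
  refine ⟨v, fun i => ?_⟩
  have h1 : cA (f i) (a ^ K) * (c i - cA (f i) v) ∈ Ie I (f i) := by
    convert add_mem (hu i) (cA_mem (f i) hv) using 1
    rw [map_sub, map_mul]
    ring
  clear hu h hv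
  induction K with
  | zero => simpa using h1
  | succ K ih =>
    refine ih (hra.mem ?_)
    rwa [pow_succ', map_mul, mul_assoc] at h1

/-- Degree one Čech cohomology vanishes in depth three. -/
theorem exists_coboundary₁ (hf : Cover f I) {a b c : A} (ha : a ∈ IsLocalRing.maximalIdeal A)
    (hb : b ∈ IsLocalRing.maximalIdeal A) (hc : c ∈ IsLocalRing.maximalIdeal A) (hra : Nzd I a)
    (hrb : Nzd (I ⊔ Ideal.span {a}) b) (hrc : Nzd (I ⊔ Ideal.span {a} ⊔ Ideal.span {b}) c)
    (z : ∀ i j, Λ (p2 f i j)) (hz : ∀ i j k, δ1 z i j k ∈ Ie I (p3 f i j k)) :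
    ∃ v : ∀ i, Λ (f i), ∀ i j, z i j - δ0 v i j ∈ Ie I (p2 f i j) := by
  let J : Ideal A :=
    { carrier := {r | ∃ v : ∀ i, Λ (f i), ∀ i j, cA (p2 f i j) r * z i j - δ0 v i j ∈ Ie I (p2 f i j)}
      zero_mem' := ⟨fun _ => 0, fun i j => by simp [δ0]⟩
      add_mem' := fun {r r'} ⟨v, hv⟩ ⟨v', hv'⟩ => ⟨fun i => v i + v' i, fun i j => by
        convert add_mem (hv i j) (hv' i j) using 1
        simp only [δ0, map_add]; ring⟩
      smul_mem' := fun s r ⟨v, hv⟩ => ⟨fun i => cA (f i) s * v i, fun i j => by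
        convert Ideal.mul_mem_left _ (cA (p2 f i j) s) (hv i j) using 1
        simp only [δ0, smul_eq_mul, map_mul, res_cA]; ring⟩ }
  have hlocal : ∀ l, ∃ k, f l ^ k ∈ J := fun l => by
    obtain ⟨K, v, hv⟩ := exists_lift_family (fun i : Fin N => e1r l i) (l := f l) (fun i => by
      simp only [p2]; rw [mul_comm]) (fun i => z l i)
    obtain ⟨M, hM⟩ := exists_pow_family (I := I) (fun p : Fin N × Fin N => e23 l p.1 p.2) (l := f l) (fun p => by
      simp only [p2, p3]; exact dvd_of_eq (by ring))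
      (w := fun p => cA (p2 f p.1 p.2) (f l) ^ K * z p.1 p.2 - δ0 v p.1 p.2) (fun ⟨i, j⟩ => by
        have h1 := congrArg (res (e12 l i j)) (hv i)
        have h2 := congrArg (res (e13 l i j)) (hv j)
        rw [res_res, map_mul, map_pow, res_cA] at h1 h2
        convert Ideal.mul_mem_left _ (cA (p3 f l i j) (f l) ^ K) (hz l i j) using 1
        simp only [δ0, δ1, map_sub, map_mul, map_pow, res_cA, res_res]
        rw [h1, h2]
        ring)
    refine ⟨M + K, fun i => cA (f i) (f l) ^ M * v i, fun i j => ?_⟩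
    convert hM (i, j) using 1
    simp only [δ0, map_mul, map_pow, res_cA, pow_add]
    ring
  have hI : I ≤ J := fun r hr => ⟨fun _ => 0, fun i j => by
    convert Ideal.mul_mem_right (z i j) _ (cA_mem (p2 f i j) hr) using 1
    simp [δ0]⟩
  obtain ⟨K, hK⟩ := hf.pow_mem hI hlocal ha
  induction K with
  | zero =>
    obtain ⟨v, hv⟩ := hK
    exact ⟨v, fun i j => by simpa using hv i j⟩
  | succ K ih =>
    refine ih ?_
    obtain ⟨v, hv⟩ := hK
    let I' := I ⊔ Ideal.span {a}
    have haI : a ∈ I' := Submodule.mem_sup_right (Ideal.mem_span_singleton_self a)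
    have hv0 : ∀ i j, δ0 v i j ∈ Ie I' (p2 f i j) := fun i j => by
      have h1 : cA (p2 f i j) (a ^ (K + 1)) * z i j ∈ Ie I' (p2 f i j) :=
        Ideal.mul_mem_right _ _ (cA_mem _ (by rw [pow_succ]; exact I'.mul_mem_left _ haI))
      convert sub_mem h1 (Ideal.map_mono (show I ≤ I' from le_sup_left) (hv i j)) using 1
      ring
    obtain ⟨u, hu⟩ := exists_const (hf.mono le_sup_left) hb hc hrb hrc v hv0
    choose w hw using fun i => mem_sup_span_iff (hu i)
    refine ⟨w, fun i j => hra.mem ?_⟩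
    convert add_mem (hv i j) (sub_mem (res_mem (e1r i j) (hw j)) (res_mem (e1l i j) (hw i))) using 1
    simp only [δ0, map_sub, map_mul, res_cA, pow_succ]
    ring

/-- Degree two Čech cohomology vanishes in depth four. -/
theorem exists_coboundary₂ (hf : Cover f I) {a b c d : A} (ha : a ∈ IsLocalRing.maximalIdeal A)
    (hb : b ∈ IsLocalRing.maximalIdeal A) (hc : c ∈ IsLocalRing.maximalIdeal A)
    (hd : d ∈ IsLocalRing.maximalIdeal A) (hra : Nzd I a) (hrb : Nzd (I ⊔ Ideal.span {a}) b)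
    (hrc : Nzd (I ⊔ Ideal.span {a} ⊔ Ideal.span {b}) c)
    (hrd : Nzd (I ⊔ Ideal.span {a} ⊔ Ideal.span {b} ⊔ Ideal.span {c}) d)
    (z : ∀ i j k, Λ (p3 f i j k)) (hz : ∀ i j k l, δ2 z i j k l ∈ Ie I (p4 f i j k l)) :
    ∃ v : ∀ i j, Λ (p2 f i j), ∀ i j k, z i j k - δ1 v i j k ∈ Ie I (p3 f i j k) := by
  let J : Ideal A :=
    { carrier := {r | ∃ v : ∀ i j, Λ (p2 f i j), ∀ i j k,
        cA (p3 f i j k) r * z i j k - δ1 v i j k ∈ Ie I (p3 f i j k)}
      zero_mem' := ⟨fun _ _ => 0, fun i j k => by simp [δ1]⟩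
      add_mem' := fun {r r'} ⟨v, hv⟩ ⟨v', hv'⟩ => ⟨fun i j => v i j + v' i j, fun i j k => by
        convert add_mem (hv i j k) (hv' i j k) using 1
        simp only [δ1, map_add]; ring⟩
      smul_mem' := fun s r ⟨v, hv⟩ => ⟨fun i j => cA (p2 f i j) s * v i j, fun i j k => by
        convert Ideal.mul_mem_left _ (cA (p3 f i j k) s) (hv i j k) using 1
        simp only [δ1, smul_eq_mul, map_mul, res_cA]; ring⟩ }
  have hlocal : ∀ l, ∃ k, f l ^ k ∈ J := fun l => by
    obtain ⟨K, v, hv⟩ := exists_lift_family (fun p : Fin N × Fin N => e23 l p.1 p.2) (l := f l) (fun p => by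
      simp only [p2, p3]; exact dvd_of_eq (by ring)) (fun p => z l p.1 p.2)
    let v' : ∀ i j, Λ (p2 f i j) := fun i j => v (i, j)
    obtain ⟨M, hM⟩ := exists_pow_family (I := I) (fun p : Fin N × Fin N × Fin N => e234 l p.1 p.2.1 p.2.2) (l := f l)
      (fun p => by simp only [p3, p4]; exact dvd_of_eq (by ring))
      (w := fun p => cA (p3 f p.1 p.2.1 p.2.2) (f l) ^ K * z p.1 p.2.1 p.2.2 - δ1 v' p.1 p.2.1 p.2.2)
      (fun ⟨i, j, k⟩ => by
        have h1 := congrArg (res (e134 l i j k)) (hv (j, k))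
        have h2 := congrArg (res (e124 l i j k)) (hv (i, k))
        have h3 := congrArg (res (e123 l i j k)) (hv (i, j))
        rw [res_res, map_mul, map_pow, res_cA] at h1 h2 h3
        convert Ideal.mul_mem_left _ (cA (p4 f l i j k) (f l) ^ K) (hz l i j k) using 1
        simp only [δ2, δ1, v', map_sub, map_add, map_mul, map_pow, res_cA, res_res]
        rw [h1, h2, h3]
        ring)
    refine ⟨M + K, fun i j => cA (p2 f i j) (f l) ^ M * v' i j, fun i j k => ?_⟩
    convert hM (i, j, k) using 1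
    simp only [δ1, map_mul, map_pow, res_cA, pow_add]
    ring
  have hI : I ≤ J := fun r hr => ⟨fun _ _ => 0, fun i j k => by
    convert Ideal.mul_mem_right (z i j k) _ (cA_mem (p3 f i j k) hr) using 1
    simp [δ1]⟩
  obtain ⟨K, hK⟩ := hf.pow_mem hI hlocal ha
  induction K with
  | zero =>
    obtain ⟨v, hv⟩ := hK
    exact ⟨v, fun i j k => by simpa using hv i j k⟩
  | succ K ih =>
    refine ih ?_
    obtain ⟨v, hv⟩ := hK
    let I' := I ⊔ Ideal.span {a}
    have haI : a ∈ I' := Submodule.mem_sup_right (Ideal.mem_span_singleton_self a)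
    have hv0 : ∀ i j k, δ1 v i j k ∈ Ie I' (p3 f i j k) := fun i j k => by
      have h1 : cA (p3 f i j k) (a ^ (K + 1)) * z i j k ∈ Ie I' (p3 f i j k) :=
        Ideal.mul_mem_right _ _ (cA_mem _ (by rw [pow_succ]; exact I'.mul_mem_left _ haI))
      convert sub_mem h1 (Ideal.map_mono (show I ≤ I' from le_sup_left) (hv i j k)) using 1
      ring
    obtain ⟨u, hu⟩ := exists_coboundary₁ (hf.mono le_sup_left) hb hc hd hrb hrc hrd v hv0
    choose w hw using fun i j => mem_sup_span_iff (hu i j)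
    refine ⟨w, fun i j k => hra.mem ?_⟩
    convert add_mem (hv i j k) (add_mem (sub_mem (res_mem (e23 i j k) (hw j k)) (res_mem (e13 i j k) (hw i k)))
      (res_mem (e12 i j k) (hw i j))) using 1
    simp only [δ1, δ0, map_sub, map_mul, res_cA, res_res, pow_succ]
    ring

end Groth.Agent.H23Para.Samuel
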