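import Groth.Agent.H23Para.Samuel.Cech
import Mathlib.RingTheory.Noetherian.Basic
import Mathlib.RingTheory.Finiteness.Prod
import Mathlib.Tactic.LinearCombination

/-!
# Deforming a line bundle on the punctured spectrum of `A/tA` along the powers of `t`
-/

set_option autoImplicit false

noncomputable section

universe u

namespace Groth.Agent.H23Para.Samuel

variable {A : Type u} [CommRing A] [IsLocalRing A] {N : ℕ}

/-- The multiples of `a`. -/
abbrev T (a : A) : Ideal A := Ideal.span {a}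

theorem mem_T {x a : A} {w : Λ x} : w ∈ Ie (T a) x ↔ ∃ v, w = cA x a * v := by
  rw [Ie, T, Ideal.map_span, Set.image_singleton, Ideal.mem_span_singleton']
  exact ⟨fun ⟨v, hv⟩ => ⟨v, by rw [← hv, mul_comm]⟩, fun ⟨v, hv⟩ => ⟨v, by rw [hv, mul_comm]⟩⟩

theorem mul_mem_T (x a : A) (v : Λ x) : cA x a * v ∈ Ie (T a) x := mem_T.mpr ⟨v, rfl⟩

theorem T_pow_le (t : A) {m n : ℕ} (h : m ≤ n) : T (t ^ n) ≤ T (t ^ m) :=
  Ideal.span_singleton_le_span_singleton.mpr (pow_dvd_pow t h)

theorem e31 {f : Fin N → A} (i j k : Fin N) : p2 f k i ∣ p3 f i j k := ⟨f j, by simp only [p2, p3]; ring⟩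
theorem e21 {f : Fin N → A} (i k : Fin N) : p2 f k i ∣ p2 f i k := dvd_of_eq (mul_comm _ _)

/-- A line bundle on the punctured spectrum of `A/tA`, given by a cocycle, with enough sections of it and of
its inverse. -/
structure Datum (t : A) (f : Fin N → A) where
  a : A
  b : A
  c : A
  d : A
  hma : a ∈ IsLocalRing.maximalIdeal A
  hmb : b ∈ IsLocalRing.maximalIdeal A
  hmc : c ∈ IsLocalRing.maximalIdeal A
  hmd : d ∈ IsLocalRing.maximalIdeal A
  ha : Nzd (T t) a
  hb : Nzd (T t ⊔ Ideal.span {a}) b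
  hc : Nzd (T t ⊔ Ideal.span {a} ⊔ Ideal.span {b}) c
  hd : Nzd (T t ⊔ Ideal.span {a} ⊔ Ideal.span {b} ⊔ Ideal.span {c}) d
  ht : ∀ z : A, t * z = 0 → z = 0
  cover : Cover f (T t)
  h : ∀ i j, Λ (p2 f i j)
  cocycle : ∀ i j k, res (e12 i j k) (h i j) * res (e23 i j k) (h j k) - res (e13 i j k) (h i k) ∈ Ie (T t) (p3 f i j k)
  norm : ∀ i, h i i - 1 ∈ Ie (T t) (p2 f i i)
  Y : Fin N → Fin N → A
  hY : ∀ m i j, cA (p2 f i j) (Y m j) - h i j * cA (p2 f i j) (Y m i) ∈ Ie (T t) (p2 f i j)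
  Ydiag : ∀ i, Y i i = f i
  Z : ∀ (_ : Fin N) (i : Fin N), Λ (f i)
  hZ : ∀ r i j, res (e1l i j) (Z r i) - res (e1r i j) (Z r j) * h i j ∈ Ie (T t) (p2 f i j)
  Zdiag : ∀ r, Z r r - 1 ∈ Ie (T t) (f r)
  hYZ : ∀ m r i, cA (f i) (Y m i) * Z r i - cA (f i) (Y m r) ∈ Ie (T t) (f i)

variable {t : A} {f : Fin N → A} (D : Datum t f)

namespace Datum

include D in
theorem cancel (n : ℕ) {x : A} {w : Λ x} (hw : cA x (t ^ n) * w = 0) : w = 0 := by
  obtain ⟨a, k, ha⟩ := exists_eq w
  have h1 : cA x (t ^ n * a) = 0 := by rw [map_mul, ← ha, ← mul_assoc, hw, zero_mul]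
  obtain ⟨⟨_, m, rfl⟩, hm⟩ := (IsLocalization.map_eq_zero_iff (Submonoid.powers x) (Λ x) _).mp h1
  have hz : ∀ (n : ℕ) (z : A), t ^ n * z = 0 → z = 0 := by
    intro n
    induction n with
    | zero => simp
    | succ n ih => exact fun z hz => ih z (D.ht _ (by rwa [pow_succ', mul_assoc] at hz))
  have h2 : x ^ m * a = 0 := hz n _ (by rw [mul_left_comm]; exact hm)
  have h3 : cA x a = 0 := (IsLocalization.map_eq_zero_iff (Submonoid.powers x) (Λ x) a).mpr ⟨⟨_, m, rfl⟩, h2⟩
  rw [← ha] at h3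
  exact (((IsLocalization.Away.algebraMap_isUnit x).pow k).mul_left_eq_zero).mp h3

include D in
theorem mem_of_mul_mem (n : ℕ) {x : A} {w : Λ x} (hw : cA x (t ^ n) * w ∈ Ie (T (t ^ (n + 1))) x) :
    w ∈ Ie (T t) x := by
  obtain ⟨v, hv⟩ := mem_T.mp hw
  refine mem_T.mpr ⟨v, sub_eq_zero.mp (D.cancel n ?_)⟩
  rw [mul_sub, hv, pow_succ, map_mul, mul_assoc, sub_self]

theorem inv (i k : Fin N) : D.h i k * res (e21 i k) (D.h k i) - 1 ∈ Ie (T t) (p2 f i k) := by
  refine mem_of_res_mem (e12 i k i) (n := 2) ⟨f k, by simp only [p2, p3]; ring⟩ ?_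
  have h1 := add_mem (D.cocycle i k i) (res_mem (e13 i k i) (D.norm i))
  convert h1 using 1
  simp only [map_sub, map_mul, map_one, res_res]
  ring

/-- One step of the deformation of the cocycle. -/
theorem step (n : ℕ) (G : ∀ i j, Λ (p2 f i j))
    (hG : ∀ i j k, res (e12 i j k) (G i j) * res (e23 i j k) (G j k) - res (e13 i j k) (G i k) ∈
      Ie (T (t ^ (n + 1))) (p3 f i j k))
    (h0 : ∀ i j, G i j - D.h i j ∈ Ie (T t) (p2 f i j)) :
    ∃ G' : ∀ i j, Λ (p2 f i j), (∀ i j k, res (e12 i j k) (G' i j) * res (e23 i j k) (G' j k) -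
      res (e13 i j k) (G' i k) ∈ Ie (T (t ^ (n + 2))) (p3 f i j k)) ∧
      ∀ i j, G' i j - G i j ∈ Ie (T (t ^ (n + 1))) (p2 f i j) := by
  choose c hc using fun i j k => mem_T.mp (hG i j k)
  let c' : ∀ i j k, Λ (p3 f i j k) := fun i j k => c i j k * res (e31 i j k) (D.h k i)
  have hδ : ∀ i j k l, δ2 c' i j k l ∈ Ie (T t) (p4 f i j k l) := fun i j k l => by
    have d_ij : p2 f i j ∣ p4 f i j k l := ⟨f k * f l, by simp only [p2, p4]; ring⟩
    have d_kl : p2 f k l ∣ p4 f i j k l := ⟨f i * f j, by simp only [p2, p4]; ring⟩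
    have d_li : p2 f l i ∣ p4 f i j k l := ⟨f j * f k, by simp only [p2, p4]; ring⟩
    have d_kli : p3 f k l i ∣ p4 f i j k l := ⟨f j, by simp only [p3, p4]; ring⟩
    have d_lij : p3 f l i j ∣ p4 f i j k l := ⟨f k, by simp only [p3, p4]; ring⟩
    let X : Λ (p4 f i j k l) := res (e134 i j k l) (c i k l) + res (e123 i j k l) (c i j k) * res d_kl (G k l) -
      res (e124 i j k l) (c i j l) - res d_ij (G i j) * res (e234 i j k l) (c j k l)
    have hX : X = 0 := by
      refine D.cancel (n + 1) ?_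
      have q1 := congrArg (res (e134 i j k l)) (hc i k l)
      have q2 := congrArg (res (e123 i j k l)) (hc i j k)
      have q3 := congrArg (res (e124 i j k l)) (hc i j l)
      have q4 := congrArg (res (e234 i j k l)) (hc j k l)
      simp only [map_sub, map_mul, res_res, res_cA] at q1 q2 q3 q4
      simp only [X]
      linear_combination q3 - q1 + (res d_ij (G i j)) * q4 - (res d_kl (G k l)) * q2
    have k1 : res d_kl (G k l) * res d_li (D.h l i) - res (e31 i j k |>.trans (e123 i j k l)) (D.h k i) ∈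
        Ie (T t) (p4 f i j k l) := by
      convert add_mem (Ideal.mul_mem_right (res d_li (D.h l i)) _ (res_mem d_kl (h0 k l)))
        (res_mem d_kli (D.cocycle k l i)) using 1
      simp only [map_sub, map_mul, res_res]
      ring
    have k2 : res d_ij (G i j) * res d_li (D.h l i) -
        res (e31 j k l |>.trans (e234 i j k l)) (D.h l j) ∈ Ie (T t) (p4 f i j k l) := by
      convert add_mem (Ideal.mul_mem_right (res d_li (D.h l i)) _ (res_mem d_ij (h0 i j)))
        (res_mem d_lij (D.cocycle l i j)) using 1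
      simp only [map_sub, map_mul, res_res]
      ring
    convert sub_mem (Ideal.mul_mem_left _ (res (e123 i j k l) (c i j k)) k1)
      (Ideal.mul_mem_left _ (res (e234 i j k l) (c j k l)) k2) using 1
    have hXh : X * res d_li (D.h l i) = 0 := by rw [hX, zero_mul]
    simp only [X] at hXh
    simp only [δ2, c', map_mul, res_res]
    linear_combination (-1 : Λ (p4 f i j k l)) * hXh
  obtain ⟨v, hv⟩ := exists_coboundary₂ D.cover D.hma D.hmb D.hmc D.hmd D.ha D.hb D.hc D.hd c' hδ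
  refine ⟨fun i j => G i j * (1 - cA (p2 f i j) (t ^ (n + 1)) * v i j), fun i j k => ?_, fun i j => ?_⟩
  · set x := p3 f i j k
    have ht' : cA x (t ^ (n + 1)) ∈ Ie (T t) x := cA_mem x (Ideal.mem_span_singleton'.mpr ⟨t ^ n, (pow_succ t n).symm⟩)
    have hbr : c i j k - res (e12 i j k) (G i j) * res (e23 i j k) (G j k) *
        (res (e12 i j k) (v i j) + res (e23 i j k) (v j k)) + res (e13 i j k) (G i k) * res (e13 i j k) (v i k) +
        cA x (t ^ (n + 1)) * (res (e12 i j k) (G i j) * res (e23 i j k) (G j k) *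
          (res (e12 i j k) (v i j) * res (e23 i j k) (v j k))) ∈ Ie (T t) x := by
      have hG' : res (e12 i j k) (G i j) * res (e23 i j k) (G j k) - res (e13 i j k) (G i k) ∈ Ie (T t) x :=
        Ideal.map_mono (by simpa using T_pow_le t (Nat.le_add_left 1 n)) (hG i j k)
      convert add_mem (add_mem (sub_mem (sub_mem (Ideal.mul_mem_left _ (res (e13 i j k) (D.h i k)) (hv i j k))
        (Ideal.mul_mem_left _ (c i j k) (res_mem (e13 i j k) (D.inv i k))))
        (Ideal.mul_mem_left _ (res (e12 i j k) (v i j) + res (e23 i j k) (v j k)) hG'))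
        (Ideal.mul_mem_right (res (e12 i j k) (G i j) * res (e23 i j k) (G j k) *
          (res (e12 i j k) (v i j) * res (e23 i j k) (v j k))) _ ht'))
        (Ideal.mul_mem_left _ (-(res (e12 i j k) (v i j) + res (e23 i j k) (v j k) - res (e13 i j k) (v i k)))
          (res_mem (e13 i j k) (h0 i k))) using 1
      simp only [c', δ1, map_sub, map_mul, map_one, res_res]
      ring
    obtain ⟨w, hw⟩ := mem_T.mp hbr
    refine mem_T.mpr ⟨w, ?_⟩
    simp only [map_sub, map_mul, map_one, res_cA]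
    rw [pow_succ t (n + 1), map_mul, mul_assoc (cA x (t ^ (n + 1))) (cA x t) w, ← hw]
    linear_combination hc i j k
  · refine mem_T.mpr ⟨-(G i j * v i j), ?_⟩
    ring

/-- Compatible lifts of the cocycle. -/
theorem exists_family : ∃ G : ℕ → ∀ i j, Λ (p2 f i j), G 0 = D.h ∧
    (∀ n i j k, res (e12 i j k) (G n i j) * res (e23 i j k) (G n j k) - res (e13 i j k) (G n i k) ∈
      Ie (T (t ^ (n + 1))) (p3 f i j k)) ∧
    ∀ n i j, G (n + 1) i j - G n i j ∈ Ie (T (t ^ (n + 1))) (p2 f i j) := by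
  let P : ℕ → Type u := fun n => {G : ∀ i j, Λ (p2 f i j) //
    (∀ i j k, res (e12 i j k) (G i j) * res (e23 i j k) (G j k) - res (e13 i j k) (G i k) ∈
      Ie (T (t ^ (n + 1))) (p3 f i j k)) ∧ ∀ i j, G i j - D.h i j ∈ Ie (T t) (p2 f i j)}
  choose next h1 h2 using fun (n : ℕ) (G : P n) => D.step n G.1 G.2.1 G.2.2
  let F : ∀ n, P n := fun n => n.rec
    ⟨D.h, fun i j k => by simpa using D.cocycle i j k, fun i j => by simp⟩
    (fun n G => ⟨next n G, h1 n G, fun i j => by
      convert add_mem (Ideal.map_mono (by simpa using T_pow_le t (Nat.le_add_left 1 n)) (h2 n G i j)) (G.2.2 i j)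
        using 1
      ring⟩)
  exact ⟨fun n => (F n).1, rfl, fun n => (F n).2.1, fun n i j => h2 n (F n) i j⟩

/-- The chosen lifts of the cocycle. -/
def G : ℕ → ∀ i j, Λ (p2 f i j) := D.exists_family.choose

theorem G_zero : D.G 0 = D.h := D.exists_family.choose_spec.1

theorem G_cocycle (n : ℕ) (i j k : Fin N) :
    res (e12 i j k) (D.G n i j) * res (e23 i j k) (D.G n j k) - res (e13 i j k) (D.G n i k) ∈
      Ie (T (t ^ (n + 1))) (p3 f i j k) := D.exists_family.choose_spec.2.1 n i j k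

theorem G_succ (n : ℕ) (i j : Fin N) : D.G (n + 1) i j - D.G n i j ∈ Ie (T (t ^ (n + 1))) (p2 f i j) :=
  D.exists_family.choose_spec.2.2 n i j

theorem G_h : ∀ (n : ℕ) (i j : Fin N), D.G n i j - D.h i j ∈ Ie (T t) (p2 f i j)
  | 0, i, j => by simp [G_zero]
  | n + 1, i, j => by
    convert add_mem (Ideal.map_mono (by simpa using T_pow_le t (Nat.le_add_left 1 n)) (D.G_succ n i j))
      (G_h n i j) using 1
    ring

/-- Sections of the deformed line bundle over `A/t^(n+1)`. -/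
def Γn (n : ℕ) : Submodule A (∀ i, Λ (f i)) where
  carrier := {s | ∀ i j, res (e1l i j) (s i) - res (e1r i j) (s j) * D.G n i j ∈ Ie (T (t ^ (n + 1))) (p2 f i j)}
  zero_mem' := fun i j => by simp
  add_mem' := fun {s s'} h h' i j => by
    convert add_mem (h i j) (h' i j) using 1
    simp only [Pi.add_apply, map_add]; ring
  smul_mem' := fun r s h i j => by
    convert Ideal.mul_mem_left _ (cA (p2 f i j) r) (h i j) using 1
    simp only [Pi.smul_apply, Algebra.smul_def, map_mul, res_cA]; ring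

theorem Γn_succ_le (n : ℕ) : D.Γn (n + 1) ≤ D.Γn n := fun s hs i j => by
  convert add_mem (Ideal.map_mono (T_pow_le t (Nat.le_succ (n + 1))) (hs i j))
    (Ideal.mul_mem_left _ (res (e1r i j) (s j)) (D.G_succ n i j)) using 1
  ring

/-- The invariant of a section over `A/t^(n+1)` detecting the obstruction to lifting it. -/
def Obs (n : ℕ) (s : ∀ i, Λ (f i)) (b : Fin N → Fin N → Fin N → A ⧸ T t) : Prop :=
  ∃ (e : ∀ i j, Λ (p2 f i j)) (c : ∀ (_ : Fin N) (i : Fin N), Λ (f i)) (β : Fin N → Fin N → Fin N → A),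
    (∀ l m r, Ideal.Quotient.mk (T t) (β l m r) = b l m r) ∧
    (∀ i j, res (e1l i j) (s i) - res (e1r i j) (s j) * D.G (n + 1) i j = cA (p2 f i j) (t ^ (n + 1)) * e i j) ∧
    (∀ l i j, cA (p2 f i j) (D.Y l i) * e i j - δ0 (c l) i j ∈ Ie (T t) (p2 f i j)) ∧
    ∀ l m r i, (c l i * cA (f i) (D.Y m i) - c m i * cA (f i) (D.Y l i)) * D.Z r i - cA (f i) (β l m r) ∈ Ie (T t) (f i)

variable {D}

theorem Obs.add {n : ℕ} {s s' : ∀ i, Λ (f i)} {b b' : Fin N → Fin N → Fin N → A ⧸ T t} (h : D.Obs n s b)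
    (h' : D.Obs n s' b') : D.Obs n (s + s') (b + b') := by
  obtain ⟨e, c, β, h1, h2, h3, h4⟩ := h
  obtain ⟨e', c', β', h1', h2', h3', h4'⟩ := h'
  refine ⟨e + e', c + c', β + β', fun l m r => ?_, fun i j => ?_, fun l i j => ?_, fun l m r i => ?_⟩
  · simp [h1, h1']
  · simp only [Pi.add_apply, map_add]
    linear_combination h2 i j + h2' i j
  · convert add_mem (h3 l i j) (h3' l i j) using 1
    simp only [Pi.add_apply, δ0, map_add]; ring
  · convert add_mem (h4 l m r i) (h4' l m r i) using 1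
    simp only [Pi.add_apply, map_add]; ring

theorem Obs.smul {n : ℕ} {s : ∀ i, Λ (f i)} {b : Fin N → Fin N → Fin N → A ⧸ T t} (h : D.Obs n s b) (u : A) :
    D.Obs n (u • s) (u • b) := by
  obtain ⟨e, c, β, h1, h2, h3, h4⟩ := h
  refine ⟨fun i j => cA (p2 f i j) u * e i j, fun l i => cA (f i) u * c l i, fun l m r => u * β l m r,
    fun l m r => ?_, fun i j => ?_, fun l i j => ?_, fun l m r i => ?_⟩
  · rw [map_mul, h1]; rfl
  · simp only [Pi.smul_apply, Algebra.smul_def, map_mul, res_cA]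
    linear_combination (cA (p2 f i j) u) * h2 i j
  · convert Ideal.mul_mem_left _ (cA (p2 f i j) u) (h3 l i j) using 1
    simp only [δ0, map_mul, res_cA]; ring
  · convert Ideal.mul_mem_left _ (cA (f i) u) (h4 l m r i) using 1
    simp only [map_mul]; ring

variable (D) in
theorem exists_obs {n : ℕ} {s : ∀ i, Λ (f i)} (hs : s ∈ D.Γn n) : ∃ b, D.Obs n s b := by
  have hs' : ∀ i j, res (e1l i j) (s i) - res (e1r i j) (s j) * D.G (n + 1) i j ∈ Ie (T (t ^ (n + 1))) (p2 f i j) :=
    fun i j => by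
      convert sub_mem (hs i j) (Ideal.mul_mem_left _ (res (e1r i j) (s j)) (D.G_succ n i j)) using 1
      ring
  choose e he using fun i j => mem_T.mp (hs' i j)
  have hcoc : ∀ i j k, res (e13 i j k) (e i k) - res (e12 i j k) (D.h i j) * res (e23 i j k) (e j k) -
      res (e12 i j k) (e i j) ∈ Ie (T t) (p3 f i j k) := fun i j k => by
    set x := p3 f i j k
    have q1 := congrArg (res (e13 i j k)) (he i k)
    have q2 := congrArg (res (e12 i j k)) (he i j)
    have q3 := congrArg (res (e23 i j k)) (he j k)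
    simp only [map_sub, map_mul, res_res, res_cA] at q1 q2 q3
    have h1 : res (e13 i j k) (e i k) - res (e12 i j k) (D.G (n + 1) i j) * res (e23 i j k) (e j k) -
        res (e12 i j k) (e i j) ∈ Ie (T t) x := D.mem_of_mul_mem (n + 1) (by
      convert Ideal.mul_mem_left _ (res ((e1r i k).trans (e13 i j k)) (s k)) (D.G_cocycle (n + 1) i j k) using 1
      linear_combination q2 + (res (e12 i j k) (D.G (n + 1) i j)) * q3 - q1)
    convert add_mem h1 (Ideal.mul_mem_right (res (e23 i j k) (e j k)) _ (res_mem (e12 i j k) (D.G_h (n + 1) i j)))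
      using 1
    simp only [map_sub]
    ring
  have hc : ∀ l, ∃ c : ∀ i, Λ (f i), ∀ i j, cA (p2 f i j) (D.Y l i) * e i j - δ0 c i j ∈ Ie (T t) (p2 f i j) :=
    fun l => exists_coboundary₁ D.cover D.hma D.hmb D.hmc D.ha D.hb D.hc _ fun i j k => by
      convert sub_mem (Ideal.mul_mem_right (res (e23 i j k) (e j k)) _ (res_mem (e12 i j k) (D.hY l i j)))
        (Ideal.mul_mem_left _ (cA (p3 f i j k) (D.Y l i)) (hcoc i j k)) using 1
      simp only [δ1, map_sub, map_mul, res_cA]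
      ring
  choose c hc using hc
  have hβ : ∀ l m r, ∃ u : A, ∀ i,
      (c l i * cA (f i) (D.Y m i) - c m i * cA (f i) (D.Y l i)) * D.Z r i - cA (f i) u ∈ Ie (T t) (f i) :=
    fun l m r => exists_const D.cover D.hma D.hmb D.ha D.hb _ fun i j => by
      set x := p2 f i j
      let Cl := res (e1l i j) (c l i)
      let Cm := res (e1l i j) (c m i)
      let Cl' := res (e1r i j) (c l j)
      let Cm' := res (e1r i j) (c m j)
      let Zi := res (e1l i j) (D.Z r i)
      let Zj := res (e1r i j) (D.Z r j)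
      have hl := hc l i j
      have hm := hc m i j
      have hYl := D.hY l i j
      have hYm := D.hY m i j
      have hZ := D.hZ r i j
      convert add_mem (sub_mem (add_mem (sub_mem
          (Ideal.mul_mem_left _ (Cl' * Zj) hYm) (Ideal.mul_mem_left _ (Cm' * Zj) hYl))
          (Ideal.mul_mem_left _ (D.h i j * cA x (D.Y l i) * Zj) hm))
          (Ideal.mul_mem_left _ (D.h i j * cA x (D.Y m i) * Zj) hl))
        (Ideal.mul_mem_left _ (-(Cl * cA x (D.Y m i) - Cm * cA x (D.Y l i))) hZ) using 1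
      simp only [δ0, map_sub, map_mul, res_cA, Cl, Cm, Cl', Cm', Zj]
      ring
  choose β hβ using hβ
  exact ⟨fun l m r => Ideal.Quotient.mk (T t) (β l m r), e, c, β, fun _ _ _ => rfl, he, hc, hβ⟩

theorem Obs.mul_t {n : ℕ} {s : ∀ i, Λ (f i)} {b : Fin N → Fin N → Fin N → A ⧸ T t} (h : D.Obs n s b)
    (hs : s ∈ D.Γn n) : t • s ∈ D.Γn (n + 1) ∧ D.Obs (n + 1) (t • s) b := by
  obtain ⟨e, c, β, h1, h2, h3, h4⟩ := h
  choose d hd using fun i j => mem_T.mp (D.G_succ (n + 1) i j)
  constructor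
  · intro i j
    refine mem_T.mpr ⟨e i j, ?_⟩
    simp only [Pi.smul_apply, Algebra.smul_def, map_mul, res_cA, pow_succ t (n + 1)]
    linear_combination (cA (p2 f i j) t) * h2 i j
  · refine ⟨fun i j => e i j - cA (p2 f i j) t * (res (e1r i j) (s j) * d i j), c, β, h1, fun i j => ?_,
      fun l i j => ?_, h4⟩
    · have h5 := hd i j
      simp only [Pi.smul_apply, Algebra.smul_def, map_mul, res_cA, pow_succ t (n + 1)] at h5 ⊢
      linear_combination (cA (p2 f i j) t) * h2 i j - (cA (p2 f i j) t * res (e1r i j) (s j)) * h5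
    · convert sub_mem (h3 l i j) (Ideal.mul_mem_left _ (cA (p2 f i j) (D.Y l i))
        (mul_mem_T (p2 f i j) t (res (e1r i j) (s j) * d i j))) using 1
      ring

theorem Obs.exists_lift {n : ℕ} {s : ∀ i, Λ (f i)} (h : D.Obs n s 0) :
    ∃ s' ∈ D.Γn (n + 1), ∀ i, s' i - s i ∈ Ie (T (t ^ (n + 1))) (f i) := by
  obtain ⟨e, c, β, h1, h2, h3, h4⟩ := h
  have hq : ∀ l m i, c l i * cA (f i) (D.Y m i) - c m i * cA (f i) (D.Y l i) ∈ Ie (T t) (f i) := fun l m i => by
    have hβ : cA (f i) (β l m i) ∈ Ie (T t) (f i) :=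
      cA_mem _ (Ideal.Quotient.eq_zero_iff_mem.mp (h1 l m i))
    convert sub_mem (add_mem (h4 l m i i) hβ) (Ideal.mul_mem_left _
      (c l i * cA (f i) (D.Y m i) - c m i * cA (f i) (D.Y l i)) (D.Zdiag i)) using 1
    ring
  choose u hu using fun i : Fin N => (IsLocalization.Away.algebraMap_isUnit (S := Λ (f i)) (f i))
  have hu' : ∀ i, (↑(u i)⁻¹ : Λ (f i)) * cA (f i) (f i) = 1 := fun i =>
    (congrArg (_ * ·) (hu i).symm).trans (u i).inv_mul
  let v : ∀ i, Λ (f i) := fun i => ↑(u i)⁻¹ * c i i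
  have hev : ∀ i j, e i j - (D.h i j * res (e1r i j) (v j) - res (e1l i j) (v i)) ∈ Ie (T t) (p2 f i j) := by
    intro i j
    have hui : IsUnit (cA (p2 f i j) (f i)) := isUnit_of_dvd (e1l i j)
    refine (Ideal.unit_mul_mem_iff_mem _ hui).mp ?_
    have hj := res_mem (e1r i j) (Ideal.mul_mem_left _ (↑(u j)⁻¹ : Λ (f j)) (hq i j j))
    have hii := congrArg (res (e1l i j)) (hu' i)
    have hjj := congrArg (res (e1r i j)) (hu' j)
    have h5 := h3 i i j
    have hYd := D.hY i i j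
    rw [D.Ydiag] at hj h5 hYd
    simp only [map_sub, map_mul, map_one, res_cA] at hj hii hjj
    convert add_mem (add_mem h5 hj) (Ideal.mul_mem_left _ (res (e1r i j) (v j)) hYd) using 1
    simp only [δ0, v, map_mul]
    linear_combination (res (e1l i j) (c i i)) * hii - (res (e1r i j) (c i j)) * hjj
  refine ⟨fun i => s i + cA (f i) (t ^ (n + 1)) * v i, fun i j => ?_, fun i => ?_⟩
  · have hG : D.G (n + 1) i j - D.h i j ∈ Ie (T t) (p2 f i j) := D.G_h (n + 1) i j
    obtain ⟨w, hw⟩ := mem_T.mp (sub_mem (hev i j) (Ideal.mul_mem_left _ (res (e1r i j) (v j)) hG))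
    refine mem_T.mpr ⟨w, ?_⟩
    simp only [map_add, map_mul, res_cA, pow_succ t (n + 1)]
    rw [mul_assoc (cA (p2 f i j) (t ^ (n + 1))) (cA (p2 f i j) t) w, ← hw]
    linear_combination h2 i j
  · exact mem_T.mpr ⟨v i, by ring⟩

variable (D)

/-- The submodule of invariants of sections over `A/t^(n+1)`. -/
def W (n : ℕ) : Submodule A (Fin N → Fin N → Fin N → A ⧸ T t) where
  carrier := {b | ∃ s ∈ D.Γn n, D.Obs n s b}
  zero_mem' := ⟨0, zero_mem _, 0, 0, 0, fun _ _ _ => by simp, fun i j => by simp, fun l i j => by simp [δ0],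
    fun l m r i => by simp⟩
  add_mem' := fun ⟨s, hs, h⟩ ⟨s', hs', h'⟩ => ⟨s + s', add_mem hs hs', h.add h'⟩
  smul_mem' := fun u b ⟨s, hs, h⟩ => ⟨u • s, Submodule.smul_mem _ u hs, h.smul u⟩

theorem W_mono (n : ℕ) : D.W n ≤ D.W (n + 1) :=
  fun _ ⟨s, hs, h⟩ => ⟨t • s, (h.mul_t hs).1, (h.mul_t hs).2⟩

/-- There is a uniform bound for lifting sections. -/
theorem exists_bound [IsNoetherianRing A] : ∃ R : ℕ, ∀ n, R ≤ n → ∀ s ∈ D.Γn n,
    ∃ s' ∈ D.Γn (n + 1), ∀ i, s' i - s i ∈ Ie (T (t ^ (n - R))) (f i) := by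
  obtain ⟨R, hR⟩ := (monotone_stabilizes_iff_noetherian (R := A) (M := Fin N → Fin N → Fin N → A ⧸ T t)).mpr
    inferInstance ⟨D.W, monotone_nat_of_le_succ D.W_mono⟩
  refine ⟨R, fun n hn s hs => ?_⟩
  obtain ⟨b, hb⟩ := D.exists_obs hs
  obtain ⟨u, hu, hub⟩ := (hR n hn).ge (show b ∈ D.W n from ⟨s, hs, hb⟩)
  obtain ⟨k, rfl⟩ := Nat.exists_eq_add_of_le hn
  have hk : ∀ k, t ^ k • u ∈ D.Γn (R + k) ∧ D.Obs (R + k) (t ^ k • u) b := by
    intro k
    induction k with
    | zero => simpa using ⟨hu, hub⟩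
    | succ k ih =>
      rw [pow_succ', mul_smul, ← add_assoc]
      exact ih.2.mul_t ih.1
  have h0 : D.Obs (R + k) (s + (-1 : A) • (t ^ k • u)) 0 := by
    have h := hb.add ((hk k).2.smul (-1))
    rwa [show b + (-1 : A) • b = 0 by simp] at h
  obtain ⟨s', hs', hss⟩ := h0.exists_lift
  refine ⟨s', hs', fun i => ?_⟩
  rw [Nat.add_sub_cancel_left]
  convert sub_mem (Ideal.map_mono (T_pow_le t (show k ≤ R + k + 1 by omega)) (hss i)) (mul_mem_T (f i) (t ^ k) (u i))
    using 1
  simp only [Pi.add_apply, Pi.smul_apply, Algebra.smul_def, Pi.mul_apply, Pi.algebraMap_apply, Pi.neg_apply, Pi.one_apply, map_neg, map_one]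
  ring

/-- Sections over `A/tA` lift to every level after multiplying by powers of the `f l`. -/
theorem exists_pow_lift (n : ℕ) {z : ∀ i, Λ (f i)} (hz : z ∈ D.Γn 0) (l : Fin N) :
    ∃ k, ∃ s ∈ D.Γn n, ∀ i, s i - cA (f i) (f l) ^ k * z i ∈ Ie (T t) (f i) := by
  obtain ⟨K, v, hv⟩ := exists_lift_family (fun i : Fin N => e1l i l) (l := f l) (fun i => dvd_rfl)
    (fun i => res (e1r i l) (z l) * D.G n i l)
  obtain ⟨M, hM⟩ := exists_pow_family (I := T (t ^ (n + 1))) (fun p : Fin N × Fin N => e12 p.1 p.2 l) (l := f l)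
    (fun p => dvd_rfl) (w := fun p => res (e1l p.1 p.2) (v p.1) - res (e1r p.1 p.2) (v p.2) * D.G n p.1 p.2)
    (fun ⟨i, j⟩ => by
      have q1 := congrArg (res (e13 i j l)) (hv i)
      have q2 := congrArg (res (e23 i j l)) (hv j)
      simp only [map_mul, map_pow, res_res, res_cA] at q1 q2
      convert Ideal.mul_mem_left _ (-(cA (p3 f i j l) (f l) ^ K * res ((e1r i l).trans (e13 i j l)) (z l)))
        (D.G_cocycle n i j l) using 1
      simp only [map_sub, map_mul, res_res]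
      rw [q1, q2]
      ring)
  obtain ⟨M', hM'⟩ := exists_pow_family (I := T t) (fun i : Fin N => e1l i l) (l := f l) (fun i => dvd_rfl)
    (w := fun i => v i - cA (f i) (f l) ^ K * z i) (fun i => by
      have q := hv i
      have h := hz i l
      rw [D.G_zero, zero_add, pow_one] at h
      convert Ideal.mul_mem_left _ (cA (p2 f i l) (f l) ^ K) (sub_mem
        (Ideal.mul_mem_left _ (res (e1r i l) (z l)) (D.G_h n i l)) h) using 1
      simp only [map_sub, map_mul, map_pow, res_cA]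
      linear_combination q)
  refine ⟨M + M' + K, fun i => cA (f i) (f l) ^ (M + M') * v i, fun i j => ?_, fun i => ?_⟩
  · convert Ideal.mul_mem_left _ (cA (p2 f i j) (f l) ^ M') (hM (i, j)) using 1
    simp only [map_mul, map_pow, res_cA, pow_add]
    ring
  · convert Ideal.mul_mem_left _ (cA (f i) (f l) ^ M) (hM' i) using 1
    simp only [pow_add]
    ring

end Datum

end Groth.Agent.H23Para.Samuel
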