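import Mathlib.RingTheory.Localization.Away.Basic
import Mathlib.RingTheory.Localization.Ideal
import Mathlib.RingTheory.Ideal.Maps

/-!
# Restriction between localisations at one element
-/

set_option autoImplicit false

noncomputable section

universe u

namespace Groth.Agent.H23Para.Samuel

variable {A : Type u} [CommRing A]

/-- The localisation at `x`. -/
abbrev Λ (x : A) : Type u := Localization.Away x

/-- The image of an element in a localisation. -/
abbrev cA (x : A) : A →+* Λ x := algebraMap A (Λ x)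

/-- The extension of an ideal to a localisation. -/
abbrev Ie (I : Ideal A) (x : A) : Ideal (Λ x) := I.map (cA x)

theorem isUnit_of_dvd {x y : A} (h : x ∣ y) : IsUnit (cA y x) :=
  isUnit_of_dvd_unit (map_dvd _ h) (IsLocalization.Away.algebraMap_isUnit y)

/-- Restriction when `x` divides `y`. -/
def res {x y : A} (h : x ∣ y) : Λ x →+* Λ y :=
  IsLocalization.Away.lift x (isUnit_of_dvd h)

@[simp] theorem res_cA {x y : A} (h : x ∣ y) (a : A) : res h (cA x a) = cA y a :=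
  IsLocalization.Away.lift_eq x _ a

@[simp] theorem res_res {x y z : A} (h : x ∣ y) (h' : y ∣ z) (w : Λ x) :
    res h' (res h w) = res (h.trans h') w := by
  refine RingHom.congr_fun (IsLocalization.ringHom_ext (Submonoid.powers x) ?_ :
    (res h').comp (res h) = res (h.trans h')) w
  ext a
  simp [res_cA]

@[simp] theorem res_self {x : A} (h : x ∣ x) (w : Λ x) : res h w = w := by
  refine RingHom.congr_fun (IsLocalization.ringHom_ext (Submonoid.powers x) ?_ : res h = RingHom.id _) w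
  ext a
  simp [res_cA]

variable {I : Ideal A} {x y : A}

theorem cA_mem {a : A} (x : A) (ha : a ∈ I) : cA x a ∈ Ie I x := Ideal.mem_map_of_mem _ ha

theorem res_mem (h : x ∣ y) {w : Λ x} (hw : w ∈ Ie I x) : res h w ∈ Ie I y := by
  have h' := Ideal.mem_map_of_mem (res h) hw
  rw [Ideal.map_map] at h'
  rwa [show (res h).comp (cA x) = cA y from RingHom.ext (res_cA h)] at h'

theorem exists_pow_mul_mem_of_cA_mem {a : A} (ha : cA x a ∈ Ie I x) : ∃ k, x ^ k * a ∈ I := by
  obtain ⟨_, ⟨k, rfl⟩, hm⟩ :=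
    (IsLocalization.algebraMap_mem_map_algebraMap_iff (Submonoid.powers x) (Λ x) I a).mp ha
  exact ⟨k, hm⟩

theorem cA_mem_of_pow_mul_mem {a : A} {k : ℕ} (ha : x ^ k * a ∈ I) : cA x a ∈ Ie I x := by
  have h := cA_mem x ha
  rw [map_mul, map_pow] at h
  exact (Ideal.unit_mul_mem_iff_mem _ ((IsLocalization.Away.algebraMap_isUnit x).pow k)).mp h

theorem exists_eq (w : Λ x) : ∃ (a : A) (k : ℕ), w * cA x x ^ k = cA x a := by
  obtain ⟨⟨a, _, k, rfl⟩, h⟩ := IsLocalization.surj (Submonoid.powers x) w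
  exact ⟨a, k, by rw [← map_pow]; exact h⟩

theorem exists_lift (h : x ∣ y) {l : A} (hy : y ∣ x * l) (w : Λ y) :
    ∃ (k : ℕ) (v : Λ x), res h v = cA y l ^ k * w := by
  obtain ⟨a, k, hw⟩ := exists_eq w
  obtain ⟨c, hc⟩ := hy
  obtain ⟨u, hu⟩ := (IsLocalization.Away.algebraMap_isUnit (S := Λ x) x).pow k
  refine ⟨k, cA x (a * c ^ k) * ↑u⁻¹, (((IsLocalization.Away.algebraMap_isUnit y).pow k).map
    (RingHom.id _)).mul_right_cancel ?_⟩
  simp only [RingHom.id_apply]
  have hu' : res h (↑u⁻¹ : Λ x) * cA y x ^ k = 1 := by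
    rw [← res_cA h x, ← map_pow, ← map_mul, ← hu, Units.inv_mul, map_one]
  rw [map_mul, res_cA, mul_assoc (cA y l ^ k), hw]
  calc cA y (a * c ^ k) * res h (↑u⁻¹ : Λ x) * cA y y ^ k
      = cA y a * res h (↑u⁻¹ : Λ x) * cA y ((x * l) ^ k) := by
        rw [hc, mul_pow, map_mul (cA y) (y ^ k), map_pow (cA y) y, map_mul (cA y) a]
        ring
    _ = cA y a * (res h (↑u⁻¹ : Λ x) * cA y x ^ k) * cA y l ^ k := by
        rw [map_pow, map_mul, mul_pow]
        ring
    _ = _ := by rw [hu', mul_one, mul_comm]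

theorem exists_pow_mul_mem (h : x ∣ y) {l : A} (hy : y ∣ x * l) {w : Λ x} (hw : res h w ∈ Ie I y) :
    ∃ k, cA x l ^ k * w ∈ Ie I x := by
  obtain ⟨a, k, hwa⟩ := exists_eq w
  have h1 : cA y a ∈ Ie I y := by
    have := congrArg (res h) hwa
    rw [map_mul, map_pow, res_cA, res_cA] at this
    rw [← this]
    exact Ideal.mul_mem_right _ _ hw
  obtain ⟨m, hm⟩ := exists_pow_mul_mem_of_cA_mem h1
  obtain ⟨c, hc⟩ := hy
  have h2 : x ^ m * (l ^ m * a) ∈ I := by
    rw [← mul_assoc, ← mul_pow, hc, mul_pow, mul_comm (y ^ m), mul_assoc]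
    exact I.mul_mem_left _ hm
  have h3 := cA_mem_of_pow_mul_mem h2
  rw [map_mul, ← hwa, map_pow, ← mul_assoc] at h3
  exact ⟨m, (Ideal.mul_unit_mem_iff_mem _ ((IsLocalization.Away.algebraMap_isUnit x).pow k)).mp h3⟩

theorem mem_of_res_mem (h : x ∣ y) {n : ℕ} (hy : y ∣ x ^ n) {w : Λ x} (hw : res h w ∈ Ie I y) : w ∈ Ie I x := by
  obtain ⟨k, hk⟩ := exists_pow_mul_mem h (l := x ^ n) (hy.trans (Dvd.intro_left x rfl)) hw
  rw [map_pow, ← pow_mul] at hk
  exact (Ideal.unit_mul_mem_iff_mem _ ((IsLocalization.Away.algebraMap_isUnit x).pow _)).mp hk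

theorem mem_sup_span_iff {a : A} {w : Λ x} (hw : w ∈ Ie (I ⊔ Ideal.span {a}) x) :
    ∃ v, w - cA x a * v ∈ Ie I x := by
  rw [Ie, Ideal.map_sup, Ideal.map_span, Set.image_singleton] at hw
  obtain ⟨i, hi, j, hj, rfl⟩ := Submodule.mem_sup.mp hw
  obtain ⟨v, rfl⟩ := Ideal.mem_span_singleton'.mp hj
  exact ⟨v, by simpa [mul_comm] using hi⟩

/-- `a` is a non-zero-divisor modulo `I`. -/
def Nzd (I : Ideal A) (a : A) : Prop := ∀ z, a * z ∈ I → z ∈ I

theorem Nzd.pow {a : A} (h : Nzd I a) : ∀ (n : ℕ) {z : A}, a ^ n * z ∈ I → z ∈ I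
  | 0, z, hz => by simpa using hz
  | n + 1, z, hz => Nzd.pow h n (h _ (by rwa [pow_succ', mul_assoc] at hz))

theorem Nzd.mem {a : A} (h : Nzd I a) {w : Λ x} (hw : cA x a * w ∈ Ie I x) : w ∈ Ie I x := by
  obtain ⟨b, k, hb⟩ := exists_eq w
  have h1 : cA x (a * b) ∈ Ie I x := by
    rw [map_mul, ← hb, ← mul_assoc]
    exact Ideal.mul_mem_right _ _ hw
  obtain ⟨m, hm⟩ := exists_pow_mul_mem_of_cA_mem h1
  have h2 := cA_mem_of_pow_mul_mem (h _ (by rwa [mul_left_comm] at hm))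
  rw [← hb] at h2
  exact (Ideal.mul_unit_mem_iff_mem _ ((IsLocalization.Away.algebraMap_isUnit x).pow k)).mp h2

end Groth.Agent.H23Para.Samuel
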