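import Groth.Agent.H23Para.Samuel.Lift
import Mathlib.RingTheory.AdicCompletion.Basic
import Mathlib.LinearAlgebra.Quotient.Basic
import Mathlib.Algebra.Module.Submodule.Map

/-!
# The algebraisation of a formal line bundle on a punctured spectrum
-/

set_option autoImplicit false

noncomputable section

universe u

namespace Groth.Agent.H23Para.Samuel.Datum

variable {A : Type u} [CommRing A] [IsLocalRing A] {N : ℕ} {t : A} {f : Fin N → A} (D : Datum t f)

/-- The invariant of a section over `A/tA` identifying it with a tuple of functions. -/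
def Val (z : ∀ i, Λ (f i)) (b : Fin N → A ⧸ T t) : Prop :=
  ∃ β : Fin N → A, (∀ m, Ideal.Quotient.mk (T t) (β m) = b m) ∧
    ∀ m i, cA (f i) (D.Y m i) * z i - cA (f i) (β m) ∈ Ie (T t) (f i)

theorem exists_val {z : ∀ i, Λ (f i)} (hz : z ∈ D.Γn 0) : ∃ b, D.Val z b := by
  have h : ∀ m, ∃ u : A, ∀ i, cA (f i) (D.Y m i) * z i - cA (f i) u ∈ Ie (T t) (f i) := fun m =>
    exists_const D.cover D.hma D.hmb D.ha D.hb _ fun i j => by
      have h := hz i j
      rw [D.G_zero, zero_add, pow_one] at h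
      convert sub_mem (Ideal.mul_mem_right (res (e1r i j) (z j)) _ (D.hY m i j))
        (Ideal.mul_mem_left _ (cA (p2 f i j) (D.Y m i)) h) using 1
      simp only [δ0, map_mul, res_cA]
      ring
  choose β hβ using h
  exact ⟨fun m => Ideal.Quotient.mk _ (β m), β, fun _ => rfl, hβ⟩

variable {D}

theorem Val.unique {z : ∀ i, Λ (f i)} {b b' : Fin N → A ⧸ T t} (h : D.Val z b) (h' : D.Val z b') : b = b' := by
  obtain ⟨β, h1, h2⟩ := h
  obtain ⟨β', h1', h2'⟩ := h'
  funext m
  rw [← h1, ← h1', Ideal.Quotient.eq]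
  refine mem_of_forall_cA_mem D.cover D.hma D.ha fun i => ?_
  convert sub_mem (h2' m i) (h2 m i) using 1
  rw [map_sub]
  ring

theorem Val.add {z z' : ∀ i, Λ (f i)} {b b' : Fin N → A ⧸ T t} (h : D.Val z b) (h' : D.Val z' b') :
    D.Val (z + z') (b + b') := by
  obtain ⟨β, h1, h2⟩ := h
  obtain ⟨β', h1', h2'⟩ := h'
  refine ⟨β + β', fun m => by simp [h1, h1'], fun m i => ?_⟩
  convert add_mem (h2 m i) (h2' m i) using 1
  simp only [Pi.add_apply, map_add]; ring

theorem Val.smul {z : ∀ i, Λ (f i)} {b : Fin N → A ⧸ T t} (h : D.Val z b) (u : A) : D.Val (u • z) (u • b) := by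
  obtain ⟨β, h1, h2⟩ := h
  refine ⟨fun m => u * β m, fun m => by rw [map_mul, h1]; rfl, fun m i => ?_⟩
  convert Ideal.mul_mem_left _ (cA (f i) u) (h2 m i) using 1
  simp only [Pi.smul_apply, Algebra.smul_def, map_mul]; ring

variable (D)

/-- Compatible families of sections over the thickenings. -/
def Compat : Submodule A (ℕ → ∀ i, Λ (f i)) where
  carrier := {s | ∀ n, s n ∈ D.Γn n ∧ ∀ i, s (n + 1) i - s n i ∈ Ie (T (t ^ (n + 1))) (f i)}
  zero_mem' := fun n => ⟨zero_mem _, fun i => by simp⟩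
  add_mem' := fun {s s'} h h' n => ⟨add_mem (h n).1 (h' n).1, fun i => by
    convert add_mem ((h n).2 i) ((h' n).2 i) using 1
    simp only [Pi.add_apply]; ring⟩
  smul_mem' := fun u s h n => ⟨Submodule.smul_mem _ u (h n).1, fun i => by
    convert Ideal.mul_mem_left _ (cA (f i) u) ((h n).2 i) using 1
    simp only [Pi.smul_apply, Algebra.smul_def]; ring⟩

/-- The families representing zero. -/
def Null : Submodule A D.Compat where
  carrier := {s | ∀ n i, s.1 n i ∈ Ie (T (t ^ (n + 1))) (f i)}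
  zero_mem' := fun n i => by simp
  add_mem' := fun {s s'} h h' n i => add_mem (h n i) (h' n i)
  smul_mem' := fun u s h n i => by
    simp only [SetLike.val_smul, Pi.smul_apply, Algebra.smul_def]
    exact Ideal.mul_mem_left _ _ (h n i)

include D in
theorem mem_T_of_mul_mem (n : ℕ) {x : A} {w : Λ x} (hw : cA x t * w ∈ Ie (T (t ^ (n + 1))) x) :
    w ∈ Ie (T (t ^ n)) x := by
  obtain ⟨v, hv⟩ := mem_T.mp hw
  refine mem_T.mpr ⟨v, sub_eq_zero.mp (D.cancel 1 ?_)⟩
  rw [pow_one, mul_sub, hv, pow_succ', map_mul, mul_assoc, sub_self]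

theorem compat_sub_zero_mem (s : D.Compat) : ∀ n i, s.1 n i - s.1 0 i ∈ Ie (T t) (f i)
  | 0, i => by simp
  | n + 1, i => by
    convert add_mem (Ideal.map_mono (by simpa using T_pow_le t (Nat.le_add_left 1 n)) ((s.2 n).2 i))
      (compat_sub_zero_mem s n i) using 1
    ring

/-- The value of a family over `A/tA`. -/
def σ₀ : D.Compat →ₗ[A] (Fin N → A ⧸ T t) where
  toFun s := (D.exists_val (s.2 0).1).choose
  map_add' s s' := (D.exists_val ((s + s').2 0).1).choose_spec.unique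
    ((D.exists_val (s.2 0).1).choose_spec.add (D.exists_val (s'.2 0).1).choose_spec)
  map_smul' u s := (D.exists_val ((u • s).2 0).1).choose_spec.unique
    ((D.exists_val (s.2 0).1).choose_spec.smul u)

theorem σ₀_spec (s : D.Compat) : D.Val (s.1 0) (D.σ₀ s) := (D.exists_val (s.2 0).1).choose_spec

theorem null_le_ker : D.Null ≤ LinearMap.ker D.σ₀ := fun s hs => by
  refine (D.σ₀_spec s).unique ⟨0, fun _ => by simp, fun m i => ?_⟩
  have h := hs 0 i
  rw [zero_add, pow_one] at h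
  simpa using Ideal.mul_mem_left _ _ h

/-- The algebraised module. -/
abbrev Mod : Type u := D.Compat ⧸ D.Null

/-- The value map of the algebraised module. -/
def σ : D.Mod →ₗ[A] (Fin N → A ⧸ T t) := D.Null.liftQ D.σ₀ D.null_le_ker

theorem σ_mk (s : D.Compat) : D.σ (Submodule.Quotient.mk s) = D.σ₀ s := rfl

theorem exists_eq_smul_of_σ_eq_zero (m : D.Mod) (hm : D.σ m = 0) : ∃ m', m = t • m' := by
  obtain ⟨s, rfl⟩ := Submodule.Quotient.mk_surjective _ m
  obtain ⟨β, h1, h2⟩ := D.σ₀_spec s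
  rw [σ_mk] at hm
  have h0 : ∀ i, s.1 0 i ∈ Ie (T t) (f i) := fun i => by
    have hβ : cA (f i) (β i) ∈ Ie (T t) (f i) := cA_mem _ (Ideal.Quotient.eq_zero_iff_mem.mp (by rw [h1, hm]; rfl))
    have h3 := add_mem (h2 i i) hβ
    rw [sub_add_cancel, D.Ydiag] at h3
    exact (Ideal.unit_mul_mem_iff_mem _ (IsLocalization.Away.algebraMap_isUnit (f i))).mp h3
  have hall : ∀ n i, ∃ w, s.1 n i = cA (f i) t * w := fun n i => mem_T.mp (by
    simpa using add_mem (D.compat_sub_zero_mem s n i) (h0 i))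
  choose w hw using hall
  have hw' : (fun n => w (n + 1)) ∈ D.Compat := fun n => ⟨fun i j => by
    have h := (s.2 (n + 1)).1 i j
    rw [hw, hw, map_mul, map_mul, res_cA, res_cA, mul_assoc, ← mul_sub] at h
    convert add_mem (D.mem_T_of_mul_mem (n + 1) h) (Ideal.mul_mem_left _ (res (e1r i j) (w (n + 1) j))
      (D.G_succ n i j)) using 1
    ring, fun i => D.mem_T_of_mul_mem (n + 1) (by
    convert (s.2 (n + 1)).2 i using 1
    rw [hw, hw, mul_sub])⟩
  refine ⟨Submodule.Quotient.mk ⟨_, hw'⟩, ?_⟩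
  rw [← Submodule.Quotient.mk_smul, Submodule.Quotient.eq]
  intro n i
  convert neg_mem ((s.2 n).2 i) using 1
  simp only [AddSubgroupClass.coe_sub, SetLike.val_smul, Pi.sub_apply, Pi.smul_apply, Algebra.smul_def, Pi.mul_apply, Pi.algebraMap_apply]
  rw [← hw (n + 1) i]
  ring

theorem eq_zero_of_smul_eq_zero (m : D.Mod) (hm : t • m = 0) : m = 0 := by
  obtain ⟨s, rfl⟩ := Submodule.Quotient.mk_surjective _ m
  rw [← Submodule.Quotient.mk_smul, Submodule.Quotient.mk_eq_zero] at hm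
  rw [Submodule.Quotient.mk_eq_zero]
  intro n i
  have h := hm (n + 1) i
  simp only [SetLike.val_smul, Pi.smul_apply, Algebra.smul_def] at h
  convert sub_mem (D.mem_T_of_mul_mem (n + 1) h) ((s.2 n).2 i) using 1
  ring

theorem eq_zero_of_forall_dvd (m : D.Mod) (hm : ∀ k, ∃ m', m = t ^ k • m') : m = 0 := by
  obtain ⟨s, rfl⟩ := Submodule.Quotient.mk_surjective _ m
  rw [Submodule.Quotient.mk_eq_zero]
  intro n i
  obtain ⟨m', hm'⟩ := hm (n + 1)
  obtain ⟨s', rfl⟩ := Submodule.Quotient.mk_surjective _ m'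
  rw [← Submodule.Quotient.mk_smul, Submodule.Quotient.eq] at hm'
  convert add_mem (hm' n i) (mul_mem_T (f i) (t ^ (n + 1)) (s'.1 n i)) using 1
  simp only [AddSubgroupClass.coe_sub, SetLike.val_smul, Pi.sub_apply, Pi.smul_apply, Algebra.smul_def, Pi.mul_apply, Pi.algebraMap_apply]
  ring

theorem finite_mod [IsNoetherianRing A] [IsAdicComplete (Ideal.span {t}) A] : Module.Finite A D.Mod := by
  classical
  obtain ⟨S, hS⟩ := IsNoetherian.noetherian (R := A) (LinearMap.range D.σ)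
  have hmem : ∀ b : S, (b : Fin N → A ⧸ T t) ∈ LinearMap.range D.σ := fun b => hS ▸ Submodule.subset_span b.2
  choose g hg using hmem
  let π : (S → A) →ₗ[A] D.Mod := Fintype.linearCombination A g
  have hπ : ∀ c, π c = ∑ b, c b • g b := fun c => Fintype.linearCombination_apply A g c
  refine Module.Finite.of_surjective π fun m => ?_
  have hstep : ∀ m : D.Mod, ∃ (c : S → A) (m' : D.Mod), m = π c + t • m' := fun m => by
    have hσm : D.σ m ∈ Submodule.span A (S : Set (Fin N → A ⧸ T t)) := hS.symm ▸ LinearMap.mem_range_self _ m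
    obtain ⟨c, -, hc⟩ := Submodule.mem_span_finset.mp hσm
    obtain ⟨m', hm'⟩ := D.exists_eq_smul_of_σ_eq_zero (m - π fun b => c b) (by
      rw [map_sub, sub_eq_zero, hπ, map_sum, ← hc, ← Finset.sum_coe_sort S]
      exact Finset.sum_congr rfl fun b _ => by rw [map_smul, hg])
    exact ⟨fun b => c b, m', by rw [← hm']; abel⟩
  choose c next hc using hstep
  let seq : ℕ → D.Mod := fun k => k.rec m (fun _ m => next m)
  let F : S → ℕ → A := fun b k => ∑ j ∈ Finset.range k, t ^ j * c (seq j) b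
  have hseq : ∀ k, m = π (fun b => F b k) + t ^ k • seq k := fun k => by
    induction k with
    | zero => simp [F, seq, hπ]
    | succ k ih =>
      refine ih.trans ?_
      conv_lhs => rw [hc (seq k)]
      rw [smul_add, smul_smul, ← pow_succ, ← map_smul, ← add_assoc, ← map_add]
      congr 2
      funext b
      simp [F, Finset.sum_range_succ]
  have hspan : ∀ k, (Ideal.span {t}) ^ k • (⊤ : Submodule A A) = Ideal.span {t ^ k} := fun k => by
    rw [Ideal.span_singleton_pow, smul_eq_mul, Ideal.mul_top]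
  have hmono : ∀ (b : S) {j k : ℕ}, j ≤ k → F b j ≡ F b k [SMOD ((Ideal.span {t}) ^ j • ⊤ : Submodule A A)] := by
    intro b j k hjk
    rw [SModEq.sub_mem, hspan, Ideal.mem_span_singleton, ← neg_sub, dvd_neg]
    simp only [F]
    rw [← Finset.sum_range_add_sum_Ico _ hjk, add_sub_cancel_left]
    exact Finset.dvd_sum fun i hi => (pow_dvd_pow t (Finset.mem_Ico.mp hi).1).mul_right _
  choose L hL using fun b => IsPrecomplete.prec' (I := Ideal.span {t}) (F b) (fun hjk => hmono b hjk)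
  refine ⟨L, (sub_eq_zero.mp (D.eq_zero_of_forall_dvd _ fun k => ?_)).symm⟩
  have hdiv : ∀ b, ∃ d, F b k - L b = t ^ k * d := fun b => by
    have h := hL b k
    rw [SModEq.sub_mem, hspan, Ideal.mem_span_singleton] at h
    exact h
  choose d hd using hdiv
  refine ⟨π d + seq k, ?_⟩
  conv_lhs => rw [hseq k, add_sub_right_comm, ← map_sub]
  rw [smul_add, ← map_smul]
  congr 2
  funext b
  exact hd b

/-- The algebraised module is invertible along `V(t)`. -/
theorem exists_local_generator [IsNoetherianRing A] (l : Fin N) : ∃ (x : D.Mod) (k : ℕ),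
    D.σ x = f l ^ k • (fun m => Ideal.Quotient.mk (T t) (D.Y m l)) ∧
    (∀ z : D.Mod, ∃ (j : ℕ) (a : A), f l ^ j • D.σ z = a • D.σ x) ∧ ∀ a : A, a • D.σ x = 0 → ∃ j, f l ^ j * a ∈ T t := by
  obtain ⟨R, hR⟩ := D.exists_bound
  have hZ : D.Z l ∈ D.Γn 0 := fun i j => by
    rw [D.G_zero, zero_add, pow_one]
    exact D.hZ l i j
  obtain ⟨k, s₀, hs₀, hs₀z⟩ := D.exists_pow_lift (R + 1) hZ l
  have hanti : ∀ {m n : ℕ}, m ≤ n → D.Γn n ≤ D.Γn m := fun h => antitone_nat_of_succ_le D.Γn_succ_le h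
  let P : ℕ → Type u := fun n => {s : ∀ i, Λ (f i) //
    s ∈ D.Γn n ∧ ∃ s' ∈ D.Γn (n + R + 1), ∀ i, s' i - s i ∈ Ie (T (t ^ (n + 1))) (f i)}
  have hnext : ∀ n (s : P n), ∃ s' : P (n + 1), ∀ i, s'.1 i - s.1 i ∈ Ie (T (t ^ (n + 1))) (f i) := by
    rintro n ⟨s, hs, s', hs', hss⟩
    obtain ⟨s'', hs'', hs's⟩ := hR (n + R + 1) (by omega) s' hs'
    rw [show n + R + 1 - R = n + 1 by omega] at hs's
    refine ⟨⟨s'', hanti (by omega) hs'', s'', hanti (by omega) hs'', fun i => by simp⟩, fun i => ?_⟩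
    convert add_mem (hs's i) (hss i) using 1
    ring
  choose next hnext using hnext
  let F : ∀ n, P n := fun n => n.rec ⟨s₀, hanti (Nat.zero_le _) hs₀, s₀, hanti (show 0 + R + 1 ≤ R + 1 by omega) hs₀, fun i => by simp⟩
    (fun n s => next n s)
  let S : D.Compat := ⟨fun n => (F n).1, fun n => ⟨(F n).2.1, fun i => hnext n (F n) i⟩⟩
  have hY : D.Val s₀ (f l ^ k • fun m => Ideal.Quotient.mk (T t) (D.Y m l)) := by
    refine ⟨fun m => f l ^ k * D.Y m l, fun m => by rw [map_mul]; rfl, fun m i => ?_⟩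
    convert add_mem (Ideal.mul_mem_left _ (cA (f i) (D.Y m i)) (hs₀z i))
      (Ideal.mul_mem_left _ (cA (f i) (f l) ^ k) (D.hYZ m l i)) using 1
    simp only [map_mul, map_pow]
    ring
  have hσ : D.σ (Submodule.Quotient.mk S) = f l ^ k • fun m => Ideal.Quotient.mk (T t) (D.Y m l) :=
    (D.σ₀_spec S).unique hY
  refine ⟨Submodule.Quotient.mk S, k, hσ, fun z => ?_, fun a ha => ?_⟩
  · obtain ⟨s, rfl⟩ := Submodule.Quotient.mk_surjective _ z
    obtain ⟨β, h1, h2⟩ := D.σ₀_spec s
    obtain ⟨a, j, haj⟩ := exists_eq (s.1 0 l)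
    have h3 : ∀ m, cA (f l) (f l ^ j * β m - a * D.Y m l) ∈ Ie (T t) (f l) := fun m => by
      convert neg_mem (Ideal.mul_mem_left _ (cA (f l) (f l) ^ j) (h2 m l)) using 1
      simp only [map_sub, map_mul, map_pow]
      linear_combination (cA (f l) (D.Y m l)) * haj
    choose M hM using fun m => exists_pow_mul_mem_of_cA_mem (h3 m)
    refine ⟨Finset.univ.sup M + k + j, f l ^ Finset.univ.sup M * a, funext fun m => ?_⟩
    rw [hσ, σ_mk, Pi.smul_apply, Pi.smul_apply, Pi.smul_apply, ← h1]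
    show Ideal.Quotient.mk _ (f l ^ (Finset.univ.sup M + k + j) * β m) =
      Ideal.Quotient.mk _ (f l ^ Finset.univ.sup M * a * (f l ^ k * D.Y m l))
    rw [Ideal.Quotient.eq]
    obtain ⟨e, he⟩ := pow_dvd_pow (f l) (Finset.le_sup (f := M) (Finset.mem_univ m))
    convert (T t).mul_mem_left (e * f l ^ k) (hM m) using 1
    rw [pow_add, pow_add, he]
    ring
  · rw [hσ] at ha
    refine ⟨k + 1, ?_⟩
    have h := congrFun ha l
    rw [Pi.smul_apply, Pi.smul_apply, D.Ydiag] at h
    rw [← Ideal.Quotient.eq_zero_iff_mem]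
    refine Eq.trans ?_ h
    show _ = Ideal.Quotient.mk _ (a * (f l ^ k * f l))
    ring_nf

end Groth.Agent.H23Para.Samuel.Datum
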